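/-
Transvections in a linear group over a prime field: elementary closure rules.
-/
import Mathlib
import Cfsg.Prelude.Def_Solvable
import Cfsg.Agent.Lib.Solv.Zipper

set_option autoImplicit false

namespace Cfsg.Agent.Lead.McL

open Module
open scoped Pointwise

variable {p : ℕ} [Fact p.Prime] {V : Type*} [AddCommGroup V] [Module (ZMod p) V]

local notation "k" => ZMod p
local notation "GLV" => V ≃ₗ[ZMod p] V

/-- The transvection with hyperplane kernel of `φ` and centre `a` belongs to `H`. -/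
def Rt (H : Subgroup GLV) (φ : Dual k V) (a : V) : Prop :=
  φ a = 0 ∧ ∃ g ∈ H, ∀ v, g v = v + φ v • a

variable {H : Subgroup (V ≃ₗ[ZMod p] V)}

theorem Rt.apply_self {φ : Dual k V} {a : V} (h : Rt H φ a) : φ a = 0 := h.1

theorem Rt.congr {φ φ' : Dual k V} {a a' : V} (h : Rt H φ a) (h' : φ' a' = 0)
    (he : ∀ v, φ' v • a' = φ v • a) : Rt H φ' a' := by
  obtain ⟨g, hg, hv⟩ := h.2
  exact ⟨h', g, hg, fun v => by rw [hv, he]⟩

theorem rt_zero_left (a : V) : Rt H 0 a :=
  ⟨rfl, 1, H.one_mem, fun v => by simp⟩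

theorem rt_zero_right (φ : Dual k V) : Rt H φ 0 :=
  ⟨map_zero φ, 1, H.one_mem, fun v => by simp⟩

theorem Rt.add_left {φ ψ : Dual k V} {a : V} (h : Rt H φ a) (h' : Rt H ψ a) : Rt H (φ + ψ) a := by
  obtain ⟨g, hg, hv⟩ := h.2
  obtain ⟨g', hg', hv'⟩ := h'.2
  refine ⟨by simp [h.1, h'.1], g * g', H.mul_mem hg hg', fun v => ?_⟩
  rw [LinearEquiv.mul_apply, hv', hv, map_add, map_smul, h.1, smul_eq_mul, mul_zero, add_zero,
    LinearMap.add_apply, add_smul]
  abel

theorem Rt.add_right {φ : Dual k V} {a b : V} (h : Rt H φ a) (h' : Rt H φ b) : Rt H φ (a + b) := by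
  obtain ⟨g, hg, hv⟩ := h.2
  obtain ⟨g', hg', hv'⟩ := h'.2
  refine ⟨by simp [h.1, h'.1], g * g', H.mul_mem hg hg', fun v => ?_⟩
  rw [LinearEquiv.mul_apply, hv', hv, map_add, map_smul, h'.1, smul_eq_mul, mul_zero, add_zero, smul_add]
  abel

theorem Rt.nsmul {φ : Dual k V} {a : V} (h : Rt H φ a) : ∀ n : ℕ, Rt H ((n : k) • φ) a
  | 0 => by rw [Nat.cast_zero, zero_smul]; exact rt_zero_left a
  | n + 1 => by rw [Nat.cast_succ, add_smul, one_smul]; exact (Rt.nsmul h n).add_left h

theorem Rt.smul_left {φ : Dual k V} {a : V} (h : Rt H φ a) (c : k) : Rt H (c • φ) a := by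
  rw [← ZMod.natCast_zmod_val c]
  exact h.nsmul _

theorem Rt.smul_right {φ : Dual k V} {a : V} (h : Rt H φ a) (c : k) : Rt H φ (c • a) :=
  (h.smul_left c).congr (by rw [map_smul, h.1, smul_eq_mul, mul_zero]) fun v => by
    rw [LinearMap.smul_apply, smul_eq_mul, smul_smul, mul_comm]

theorem Rt.neg_left {φ : Dual k V} {a : V} (h : Rt H φ a) : Rt H (-φ) a := by
  have := h.smul_left (-1 : k)
  convert this using 1
  ext v; simp

theorem Rt.neg_right {φ : Dual k V} {a : V} (h : Rt H φ a) : Rt H φ (-a) := by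
  have := h.smul_right (-1 : k)
  convert this using 1
  simp

theorem Rt.sub_left {φ ψ : Dual k V} {a : V} (h : Rt H φ a) (h' : Rt H ψ a) : Rt H (φ - ψ) a := by
  rw [sub_eq_add_neg]; exact h.add_left h'.neg_left

theorem Rt.sub_right {φ : Dual k V} {a b : V} (h : Rt H φ a) (h' : Rt H φ b) : Rt H φ (a - b) := by
  rw [sub_eq_add_neg]; exact h.add_right h'.neg_right

theorem Rt.of_smul_left {φ : Dual k V} {a : V} {c : k} (hc : c ≠ 0) (h : Rt H (c • φ) a) : Rt H φ a := by
  have := h.smul_left c⁻¹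
  rwa [smul_smul, inv_mul_cancel₀ hc, one_smul] at this

theorem Rt.of_smul_right {φ : Dual k V} {a : V} {c : k} (hc : c ≠ 0) (h : Rt H φ (c • a)) : Rt H φ a := by
  have := h.smul_right c⁻¹
  rwa [smul_smul, inv_mul_cancel₀ hc, one_smul] at this

theorem Rt.conj {φ : Dual k V} {a : V} (h : Rt H φ a) {g : GLV} (hg : g ∈ H) :
    Rt H (φ.comp (g.symm : V →ₗ[k] V)) (g a) := by
  obtain ⟨t, ht, hv⟩ := h.2
  refine ⟨by simp [h.1], g * t * g⁻¹, H.mul_mem (H.mul_mem hg ht) (H.inv_mem hg), fun v => ?_⟩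
  show g (t (g.symm v)) = _
  rw [hv, map_add, map_smul, LinearEquiv.apply_symm_apply]
  rfl

/-- Conjugation of one transvection by another. -/
theorem Rt.conj_root {φ ψ : Dual k V} {a b : V} (h : Rt H φ a) (h' : Rt H ψ b) :
    Rt H (φ - φ b • ψ) (a + ψ a • b) := by
  obtain ⟨g, hg, hv⟩ := h'.2
  have hs : ∀ v, g.symm v = v - ψ v • b := fun v => by
    apply g.injective
    rw [LinearEquiv.apply_symm_apply, hv, map_sub, map_smul, h'.1, smul_eq_mul, mul_zero, sub_zero]
    abel
  have := h.conj hg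
  rw [hv] at this
  convert this using 1
  ext v
  simp only [LinearMap.sub_apply, LinearMap.smul_apply, LinearMap.comp_apply, LinearEquiv.coe_coe, hs,
    map_sub, map_smul, smul_eq_mul]
  ring

/-- If the hyperplane of the first contains the centre of the second, a new transvection appears. -/
theorem Rt.comm {φ ψ : Dual k V} {a b : V} (h : Rt H φ a) (h' : Rt H ψ b) (h1 : φ b = 0) (h2 : ψ a ≠ 0) :
    Rt H φ b := by
  have := h.conj_root h'
  rw [h1, zero_smul, sub_zero] at this
  have := this.sub_right h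
  rw [add_sub_cancel_left] at this
  exact this.of_smul_right h2

theorem Rt.dual_mem_span {φ ψ χ : Dual k V} {a b : V} (ha : φ a = 0) (hb : ψ b = 0) (h1 : φ b ≠ 0)
    (h2 : ψ a ≠ 0) (hχ : ∀ v, φ v = 0 → ψ v = 0 → χ v = 0) :
    χ = (χ b / φ b) • φ + (χ a / ψ a) • ψ := by
  ext v
  have h := hχ (v - (φ v / φ b) • b - (ψ v / ψ a) • a)
    (by simp [ha, div_mul_cancel₀ _ h1]) (by simp [hb, div_mul_cancel₀ _ h2])
  simp only [map_sub, map_smul, smul_eq_mul] at h
  simp only [LinearMap.add_apply, LinearMap.smul_apply, smul_eq_mul]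
  field_simp at h ⊢
  linear_combination h

/-- All transvections of the plane of a non-commuting pair. -/
theorem Rt.plane {φ ψ χ : Dual k V} {a b : V} (h : Rt H φ a) (h' : Rt H ψ b) (h1 : φ b ≠ 0)
    (h2 : ψ a ≠ 0) (x y : k) (hχ : ∀ v, φ v = 0 → ψ v = 0 → χ v = 0) (h0 : χ (x • a + y • b) = 0) :
    Rt H χ (x • a + y • b) := by
  set s := χ b / φ b
  set t := χ a / ψ a
  have he : χ = s • φ + t • ψ := Rt.dual_mem_span h.1 h'.1 h1 h2 hχ
  rw [he] at h0 ⊢
  simp [h.1, h'.1] at h0
  by_cases hx : x = 0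
  · subst hx
    simp only [zero_mul, zero_smul, zero_add] at h0 ⊢
    by_cases hy : y = 0
    · subst hy; rw [zero_smul]; exact rt_zero_right _
    · have hs : s = 0 := by simpa [hy, h1] using h0
      rw [hs, zero_smul, zero_add]
      exact (h'.smul_left t).smul_right y
  · set l := y / (x * ψ a)
    have hl := h.conj_root (h'.smul_left l)
    have key : (x • (a + (l • ψ) a • b)) = x • a + y • b := by
      rw [smul_add, smul_smul, LinearMap.smul_apply, smul_eq_mul]
      congr 2
      simp only [l]; field_simp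
    have hht : t = -(s * φ b * l) := by
      simp only [l]; field_simp; linear_combination h0
    have := (hl.smul_left s).smul_right x
    rw [key] at this
    convert this using 1
    rw [hht]
    ext v
    simp only [LinearMap.sub_apply, LinearMap.smul_apply, LinearMap.add_apply, smul_eq_mul]
    ring

/-- The elements acting unipotently on a short flag through `b` and a plane. -/
def Flag (A : Submodule k V) (b : V) (g : GLV) : Prop :=
  (∀ v, g v - v ∈ A) ∧ (∀ x ∈ A, ∃ c : k, g x = x + c • b) ∧ g b = b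

theorem Flag.pow_p (hp : p ≠ 2) {A : Submodule k V} {b : V} {g : GLV} (hg : Flag A b g) : g ^ p = 1 := by
  obtain ⟨h1, h2, h3⟩ := hg
  apply LinearEquiv.ext
  intro v
  obtain ⟨c, hc⟩ := h2 _ (h1 v)
  have key : ∀ n : ℕ, (g ^ n) v = v + (n : k) • (g v - v) + ((n.choose 2 : ℕ) : k) • c • b := by
    intro n
    induction n with
    | zero => simp
    | succ n ih =>
      rw [pow_succ', LinearEquiv.mul_apply, ih, map_add, map_add, map_smul, map_smul, map_smul, hc, h3,
        Nat.choose_succ_succ, Nat.choose_one_right, Nat.cast_add, Nat.cast_succ]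
      module
  have h0 : (p : k) = 0 := ZMod.natCast_self p
  have h02 : ((p.choose 2 : ℕ) : k) = 0 := by
    rw [ZMod.natCast_eq_zero_iff]
    have := (Fact.out : p.Prime).two_le
    exact (Fact.out : p.Prime).dvd_choose_self (by norm_num) (by omega)
  rw [key, h0, h02]
  simp

theorem isPGroup_pair [Finite V] (hp : p ≠ 2) {φ ψ : Dual k V} {a b : V} (ha : φ a = 0) (hb : ψ b = 0)
    (h1 : φ b = 0) {g g' : GLV} (hg : ∀ v, g v = v + φ v • a) (hg' : ∀ v, g' v = v + ψ v • b)
    {x : GLV} (hx : x ∈ Subgroup.closure ({g, g'} : Set GLV)) : x ^ p = 1 := by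
  refine Flag.pow_p hp (A := Submodule.span k {a, b}) (b := b) ?_
  refine Subgroup.closure_induction (p := fun x _ => Flag _ b x) ?_ ?_ ?_ ?_ hx
  · have haA : a ∈ Submodule.span k ({a, b} : Set V) := Submodule.subset_span (by simp)
    have hbA : b ∈ Submodule.span k ({a, b} : Set V) := Submodule.subset_span (by simp)
    rintro y (rfl | rfl)
    · refine ⟨fun v => ?_, fun v hv => ⟨0, ?_⟩, ?_⟩
      · rw [hg, add_sub_cancel_left]; exact Submodule.smul_mem _ _ haA
      · obtain ⟨r, s, rfl⟩ := Submodule.mem_span_pair.1 hv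
        rw [hg]; simp [ha, h1]
      · rw [hg, h1, zero_smul, add_zero]
    · refine ⟨fun v => ?_, fun v _ => ⟨ψ v, hg' v⟩, ?_⟩
      · rw [hg', add_sub_cancel_left]; exact Submodule.smul_mem _ _ hbA
      · rw [hg', hb, zero_smul, add_zero]
  · exact ⟨fun v => by simp, fun v _ => ⟨0, by simp⟩, rfl⟩
  · rintro y z _ _ ⟨p1, p2, p3⟩ ⟨q1, q2, q3⟩
    refine ⟨fun v => ?_, fun v hv => ?_, by rw [LinearEquiv.mul_apply, q3, p3]⟩
    · rw [LinearEquiv.mul_apply, ← sub_add_sub_cancel (y (z v)) (z v) v]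
      exact add_mem (p1 _) (q1 _)
    · obtain ⟨c, hc⟩ := q2 v hv
      obtain ⟨d, hd⟩ := p2 v hv
      exact ⟨d + c, by rw [LinearEquiv.mul_apply, hc, map_add, map_smul, p3, hd, add_smul, add_assoc]⟩
  · rintro y _ ⟨p1, p2, p3⟩
    have e : y⁻¹ b = b := by show y.symm b = b; exact y.injective (by rw [LinearEquiv.apply_symm_apply, p3])
    refine ⟨fun v => ?_, fun v hv => ?_, e⟩
    · have := neg_mem (p1 (y.symm v))
      rw [LinearEquiv.apply_symm_apply, neg_sub] at this
      exact this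
    · obtain ⟨c, hc⟩ := p2 v hv
      refine ⟨-c, y.injective ?_⟩
      show y (y.symm v) = _
      rw [LinearEquiv.apply_symm_apply, map_add, map_smul, p3, hc]
      module

theorem finite_GLV [Finite V] : Finite GLV := Finite.of_injective _ DFunLike.coe_injective

/-- Trivial `p`-core: every transvection has a non-commuting partner of opposite incidence. -/
theorem Rt.exists_partner [Finite V] (hp : p ≠ 2) (hO : Cfsg.pCore p ↥H = ⊥) {φ : Dual k V} {a : V}
    (h : Rt H φ a) (hφ : φ ≠ 0) (ha : a ≠ 0) : ∃ ψ b, Rt H ψ b ∧ φ b ≠ 0 ∧ ψ a ≠ 0 := by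
  obtain ⟨t, ht, hv⟩ := h.2
  by_contra hno
  push Not at hno
  have := finite_GLV (p := p) (V := V)
  let t' : H := ⟨t, ht⟩
  have hle : Subgroup.zpowers t' ≤ Cfsg.pCore p ↥H := by
    refine Solv.baer_suzuki _ fun g => ?_
    obtain ⟨gv, hgv⟩ : ∃ u : GLV, u = (g * t' * g⁻¹ : H) := ⟨_, rfl⟩
    have hc := h.conj g.2
    have hgv' : ∀ v, gv v = v + (φ.comp ((g : GLV).symm : V →ₗ[k] V)) v • (g : GLV) a := fun v => by
      rw [hgv]
      show (g : GLV) (t ((g : GLV).symm v)) = _
      rw [hv, map_add, map_smul, LinearEquiv.apply_symm_apply]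
      rfl
    have hcl : ∀ x ∈ Subgroup.closure ({t, gv} : Set GLV), x ^ p = 1 := by
      intro x hx
      by_cases h1 : φ ((g : GLV) a) = 0
      · exact isPGroup_pair hp h.1 hc.1 h1 hv hgv' hx
      · rw [Set.pair_comm] at hx
        exact isPGroup_pair hp hc.1 h.1 (hno _ _ hc h1) hgv' hv hx
    have hle2 : Subgroup.zpowers t' ⊔ MulAut.conj g • Subgroup.zpowers t' ≤
        (Subgroup.closure ({t, gv} : Set GLV)).comap H.subtype := by
      refine sup_le ?_ ?_
      · rw [Subgroup.zpowers_le]; exact Subgroup.subset_closure (by simp [t'])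
      · rintro _ ⟨y, hy, rfl⟩
        obtain ⟨n, rfl⟩ := Subgroup.mem_zpowers_iff.1 hy
        show ((MulAut.conj g (t' ^ n) : H) : GLV) ∈ Subgroup.closure ({t, gv} : Set GLV)
        rw [map_zpow, MulAut.conj_apply, SubgroupClass.coe_zpow, ← hgv]
        exact Subgroup.zpow_mem (Subgroup.closure ({t, gv} : Set GLV)) (Subgroup.subset_closure (by simp)) n
    intro x
    refine ⟨1, Subtype.ext (Subtype.ext ?_)⟩
    rw [pow_one, SubmonoidClass.coe_pow, SubmonoidClass.coe_pow, OneMemClass.coe_one, OneMemClass.coe_one]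
    exact hcl _ (hle2 x.2)
  rw [hO, Subgroup.zpowers_le, Subgroup.mem_bot] at hle
  have ht1 : t = 1 := congrArg Subtype.val hle
  obtain ⟨v, hv0⟩ : ∃ v, φ v ≠ 0 := by
    by_contra hall
    push Not at hall
    exact hφ (LinearMap.ext fun v => by simpa using hall v)
  have := hv v
  rw [ht1, LinearEquiv.coe_one, id_eq] at this
  exact smul_ne_zero hv0 ha (add_eq_left.1 this.symm)

/-- An element of order `p` fixing a hyperplane pointwise is a transvection. -/
theorem exists_rt [Finite V] {t : GLV} (ht : t ∈ H) (hp : orderOf t = p)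
    (hr : finrank k ↥(LinearMap.ker ((t : V →ₗ[k] V) - LinearMap.id)) + 1 = finrank k V) :
    ∃ φ a, Rt H φ a ∧ φ ≠ 0 ∧ a ≠ 0 ∧ ∀ v, t v = v + φ v • a := by
  have : Module.Finite k V := Module.Finite.of_finite
  set N := (t : V →ₗ[k] V) - LinearMap.id with hN
  have h1 := LinearMap.finrank_range_add_finrank_ker N
  have hrange : finrank k (LinearMap.range N) = 1 := by omega
  let e : ↥(LinearMap.range N) ≃ₗ[k] k :=
    LinearEquiv.ofFinrankEq _ _ (by rw [hrange, finrank_self])
  let φ : Dual k V := (e : ↥(LinearMap.range N) →ₗ[k] k).comp N.rangeRestrict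
  let a : V := e.symm 1
  have hv : ∀ v, t v = v + φ v • a := fun v => by
    have : φ v • a = N v := by
      show e (N.rangeRestrict v) • ((e.symm 1 : ↥(LinearMap.range N)) : V) = N v
      rw [← Submodule.coe_smul, ← map_smul, smul_eq_mul, mul_one, e.symm_apply_apply]
      rfl
    rw [this, hN]
    simp
  have hta : t a = (1 + φ a) • a := by rw [hv]; module
  have hpow : ∀ n : ℕ, (t ^ n) a = (1 + φ a) ^ n • a := by
    intro n
    induction n with
    | zero => simp
    | succ n ih => rw [pow_succ', LinearEquiv.mul_apply, ih, map_smul, hta, smul_smul, pow_succ]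
  have ha0 : a ≠ 0 := fun h => by
    have : (e.symm 1 : ↥(LinearMap.range N)) = 0 := Subtype.ext h
    simp at this
  have hφa : φ a = 0 := by
    have h3 := hpow p
    rw [orderOf_dvd_iff_pow_eq_one.1 (dvd_of_eq hp), LinearEquiv.coe_one, id_eq] at h3
    have : (1 + φ a) ^ p = 1 := by
      have h4 : ((1 + φ a) ^ p - 1) • a = 0 := by rw [sub_smul, one_smul, ← h3, sub_self]
      exact sub_eq_zero.1 ((smul_eq_zero.1 h4).resolve_right ha0)
    rwa [ZMod.pow_card, add_eq_left] at this
  refine ⟨φ, a, ⟨hφa, t, ht, hv⟩, fun h => ?_, ha0, hv⟩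
  have : t = 1 := LinearEquiv.ext fun v => by simp [hv, h]
  rw [this, orderOf_one] at hp
  exact (Fact.out : p.Prime).ne_one hp.symm

end Cfsg.Agent.Lead.McL
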