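/-
Blocks: a complemented subspace on which a linear group contains all transvections of a special linear or a
symplectic group; elementary consequences.
-/
import Cfsg.Agent.Lib.Lead.McL.Roots

set_option autoImplicit false
set_option linter.unusedSectionVars false

namespace Cfsg.Agent.Lead.McL

open Module Submodule

variable {p : ℕ} [Fact p.Prime] {V : Type*} [AddCommGroup V] [Module (ZMod p) V]

local notation "k" => ZMod p

variable {H : Subgroup (V ≃ₗ[ZMod p] V)}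

theorem exists_add {W U : Submodule k V} (hc : IsCompl W U) (v : V) : ∃ w ∈ W, ∃ u ∈ U, w + u = v :=
  Submodule.mem_sup.1 (hc.sup_eq_top.symm ▸ Submodule.mem_top)

theorem ext_compl {W U : Submodule k V} (hc : IsCompl W U) {φ ψ : Dual k V}
    (hW : ∀ w ∈ W, φ w = ψ w) (hU : ∀ u ∈ U, φ u = ψ u) : φ = ψ := by
  ext v
  obtain ⟨w, hw, u, hu, rfl⟩ := exists_add hc v
  rw [map_add, map_add, hW w hw, hU u hu]

/-- A subspace containing the complement of a hyperplane is everything. -/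
theorem mem_of_avoid {W : Submodule k V} (f : Dual k V) {x : V} (hx : x ∈ W) (hfx : f x ≠ 0)
    (P : V → Prop) (hsub : ∀ a b, P a → P b → P (a - b)) (hP : ∀ y ∈ W, f y ≠ 0 → P y) :
    ∀ y ∈ W, P y := by
  intro y hy
  by_cases h : f y = 0
  · have := hsub _ _ (hP _ (add_mem hy hx) (by rwa [map_add, h, zero_add])) (hP x hx hfx)
    rwa [add_sub_cancel_right] at this
  · exact hP y hy h

/-- Orbits of moves along an alternating form. -/
theorem orbit (S : Submodule k V) (B : V →ₗ[k] V →ₗ[k] k) (halt : ∀ x, B x x = 0)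
    (hnd : ∀ a ∈ S, a ≠ 0 → ∃ x ∈ S, B a x ≠ 0) (P : V → Prop) {w : V} (hw : w ∈ S) (hw0 : w ≠ 0)
    (hPw : P w) (hstep : ∀ a ∈ S, ∀ x ∈ S, ∀ s : k, P a → P (a + (s * B x a) • x)) :
    ∀ a ∈ S, a ≠ 0 → P a := by
  have hsw : ∀ a b, B a b = -B b a := fun a b => by
    have := halt (a + b)
    simp [halt a, halt b] at this
    linear_combination this
  have one : ∀ a ∈ S, ∀ b ∈ S, P a → B a b ≠ 0 → P b := by
    intro a ha b hb hPa hab
    have h := hstep a ha (b - a) (sub_mem hb ha) (B (b - a) a)⁻¹ hPa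
    have h2 : B (b - a) a = B b a := by rw [map_sub, LinearMap.sub_apply, halt, sub_zero]
    rw [inv_mul_cancel₀ (by rw [h2, hsw]; exact neg_ne_zero.2 hab), one_smul, add_sub_cancel] at h
    exact h
  intro a ha ha0
  by_cases h : B w a = 0
  · obtain ⟨z1, hz1, h1⟩ := hnd w hw hw0
    obtain ⟨z2, hz2, h2⟩ := hnd a ha ha0
    obtain ⟨z, hz, hwz, haz⟩ : ∃ z ∈ S, B w z ≠ 0 ∧ B a z ≠ 0 := by
      by_cases h3 : B a z1 = 0
      · by_cases h4 : B w z2 = 0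
        · exact ⟨z1 + z2, add_mem hz1 hz2, by rwa [map_add, h4, add_zero], by rwa [map_add, h3, zero_add]⟩
        · exact ⟨z2, hz2, h4, h2⟩
      · exact ⟨z1, hz1, h1, h3⟩
    refine one z hz a ha (one w hw z hz hPw hwz) ?_
    rw [hsw]; exact neg_ne_zero.2 haz
  · exact one w hw a ha hPw h

/-- A block. -/
structure Blk (H : Subgroup (V ≃ₗ[ZMod p] V)) where
  W : Submodule k V
  U : Submodule k V
  sl : Bool
  B : V →ₗ[k] V →ₗ[k] k
  compl : IsCompl W U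
  dim : 2 ≤ finrank k W
  dimSL : sl = true → 3 ≤ finrank k W
  alt : sl = false → ∀ x, B x x = 0
  rad : sl = false → ∀ u ∈ U, B u = 0
  nd : sl = false → ∀ w ∈ W, w ≠ 0 → ∃ x ∈ W, B w x ≠ 0
  full : ∀ φ a, φ a = 0 → a ∈ W → (∀ u ∈ U, φ u = 0) → (sl = false → ∃ s : k, φ = s • B a) → Rt H φ a

namespace Blk

variable (𝔅 : Blk H)

/-- The transvection belongs to the block. -/
def In (φ : Dual k V) (a : V) : Prop :=
  a ∈ 𝔅.W ∧ (∀ u ∈ 𝔅.U, φ u = 0) ∧ (𝔅.sl = false → ∃ s : k, φ = s • 𝔅.B a)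

/-- The transvection centralises the block. -/
def Orth (φ : Dual k V) (a : V) : Prop := a ∈ 𝔅.U ∧ ∀ w ∈ 𝔅.W, φ w = 0

/-- The measure of a block. -/
noncomputable def mu : ℕ := 2 * finrank k 𝔅.W + if 𝔅.sl then 1 else 0

theorem full' {φ : Dual k V} {a : V} (h : 𝔅.In φ a) (h0 : φ a = 0) : Rt H φ a :=
  𝔅.full φ a h0 h.1 h.2.1 h.2.2

theorem B_swap (hs : 𝔅.sl = false) (a b : V) : 𝔅.B a b = -𝔅.B b a := by
  have := 𝔅.alt hs (a + b)
  simp [𝔅.alt hs a, 𝔅.alt hs b] at this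
  linear_combination this

theorem B_right (hs : 𝔅.sl = false) (a : V) {u : V} (hu : u ∈ 𝔅.U) : 𝔅.B a u = 0 := by
  rw [𝔅.B_swap hs, 𝔅.rad hs u hu, LinearMap.zero_apply, neg_zero]

theorem in_B (hs : 𝔅.sl = false) {a : V} (ha : a ∈ 𝔅.W) : 𝔅.In (𝔅.B a) a :=
  ⟨ha, fun _ hu => 𝔅.B_right hs a hu, fun _ => ⟨1, (one_smul _ _).symm⟩⟩

theorem rt_B (hs : 𝔅.sl = false) {a : V} (ha : a ∈ 𝔅.W) : Rt H (𝔅.B a) a :=
  𝔅.full' (𝔅.in_B hs ha) (𝔅.alt hs a)

theorem B_surj [Finite V] (hs : 𝔅.sl = false) (φ : Dual k V) : ∃ b ∈ 𝔅.W, ∀ x ∈ 𝔅.W, 𝔅.B b x = φ x := by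
  have : Module.Finite k V := Module.Finite.of_finite
  let f : ↥𝔅.W →ₗ[k] Dual k ↥𝔅.W := (𝔅.B.compl₂ 𝔅.W.subtype).comp 𝔅.W.subtype
  have hinj : Function.Injective f := by
    rw [← LinearMap.ker_eq_bot, LinearMap.ker_eq_bot']
    intro w hw
    by_contra h0
    obtain ⟨x, hx, hwx⟩ := 𝔅.nd hs w w.2 fun h => h0 (Subtype.ext h)
    exact hwx (LinearMap.congr_fun hw ⟨x, hx⟩)
  have hsur := (LinearMap.injective_iff_surjective_of_finrank_eq_finrank
    (Subspace.dual_finrank_eq).symm).1 hinj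
  obtain ⟨b, hb⟩ := hsur (φ.comp 𝔅.W.subtype)
  exact ⟨b, b.2, fun x hx => LinearMap.congr_fun hb ⟨x, hx⟩⟩

theorem eq_B (hs : 𝔅.sl = false) {φ : Dual k V} (hU : ∀ u ∈ 𝔅.U, φ u = 0) {b : V}
    (h : ∀ x ∈ 𝔅.W, 𝔅.B b x = φ x) : φ = 𝔅.B b :=
  ext_compl 𝔅.compl (fun x hx => (h x hx).symm) fun u hu => by rw [hU u hu, 𝔅.B_right hs b hu]

/-- A functional killing a given point of the block and the complement. -/
theorem exists_sep {b w : V} (hb : b ∈ 𝔅.W) (hw : w ∈ 𝔅.W) (h : w ∉ k ∙ b) :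
    ∃ ψ : Dual k V, ψ w ≠ 0 ∧ ψ b = 0 ∧ ∀ u ∈ 𝔅.U, ψ u = 0 := by
  have hnot : w ∉ 𝔅.U ⊔ k ∙ b := by
    intro hmem
    obtain ⟨u, hu, y, hy, e⟩ := Submodule.mem_sup.1 hmem
    have hyW : y ∈ 𝔅.W := (Submodule.span_singleton_le_iff_mem b _).2 hb hy
    have : u ∈ 𝔅.W := by rw [eq_sub_of_add_eq e]; exact sub_mem hw hyW
    have h0 : u = 0 := Submodule.disjoint_def.1 𝔅.compl.disjoint u this hu
    rw [h0, zero_add] at e
    exact h (e ▸ hy)
  obtain ⟨ψ, hψ, hmap⟩ := Submodule.exists_dual_map_eq_bot_of_notMem hnot inferInstance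
  have hk : ∀ y ∈ 𝔅.U ⊔ k ∙ b, ψ y = 0 := fun y hy => by
    have := Submodule.mem_map_of_mem (f := ψ) hy
    rwa [hmap, Submodule.mem_bot] at this
  exact ⟨ψ, hψ, hk b (Submodule.mem_sup_right (Submodule.mem_span_singleton_self b)),
    fun u hu => hk u (Submodule.mem_sup_left hu)⟩

theorem exists_notMem_span [Finite V] (w : V) : ∃ x ∈ 𝔅.W, x ∉ k ∙ w := by
  have : Module.Finite k V := Module.Finite.of_finite
  by_contra h
  push Not at h
  have h1 : finrank k 𝔅.W ≤ finrank k (k ∙ w) := Submodule.finrank_mono h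
  have h2 : finrank k (k ∙ w) ≤ 1 := (finrank_span_le_card {w}).trans (by simp)
  have := 𝔅.dim
  omega

theorem notMem_span_swap {x y : V} (hy : y ≠ 0) (h : x ∉ k ∙ y) : y ∉ k ∙ x := by
  intro hm
  obtain ⟨c, hc⟩ := Submodule.mem_span_singleton.1 hm
  have hc0 : c ≠ 0 := fun h0 => hy (by rw [← hc, h0, zero_smul])
  exact h (Submodule.mem_span_singleton.2 ⟨c⁻¹, by rw [← hc, smul_smul, inv_mul_cancel₀ hc0, one_smul]⟩)

/-- Each point of the block is the centre of a transvection of the block. -/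
theorem exists_at [Finite V] {b : V} (hb : b ∈ 𝔅.W) (hb0 : b ≠ 0) :
    ∃ ψ, Rt H ψ b ∧ 𝔅.In ψ b ∧ ∃ x ∈ 𝔅.W, ψ x ≠ 0 := by
  rcases hs : 𝔅.sl with _ | _
  · exact ⟨_, 𝔅.rt_B hs hb, 𝔅.in_B hs hb, 𝔅.nd hs b hb hb0⟩
  · obtain ⟨x, hx, hxb⟩ := 𝔅.exists_notMem_span b
    obtain ⟨ψ, h1, h2, h3⟩ := 𝔅.exists_sep hb hx hxb
    have hin : 𝔅.In ψ b := ⟨hb, h3, fun h => by rw [hs] at h; simp at h⟩
    exact ⟨ψ, 𝔅.full' hin h2, hin, x, hx, h1⟩

/-- Each point of the block is moved by a transvection of the block. -/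
theorem exists_moving [Finite V] {w : V} (hw : w ∈ 𝔅.W) (hw0 : w ≠ 0) :
    ∃ ψ b, Rt H ψ b ∧ 𝔅.In ψ b ∧ b ≠ 0 ∧ ψ w ≠ 0 := by
  rcases hs : 𝔅.sl with _ | _
  · obtain ⟨x, hx, hwx⟩ := 𝔅.nd hs w hw hw0
    refine ⟨_, x, 𝔅.rt_B hs hx, 𝔅.in_B hs hx, fun h => hwx (by rw [h, map_zero]), ?_⟩
    rw [𝔅.B_swap hs]; exact neg_ne_zero.2 hwx
  · obtain ⟨b, hb, hbw⟩ := 𝔅.exists_notMem_span w
    have hb0 : b ≠ 0 := fun h => hbw (h ▸ zero_mem _)
    obtain ⟨ψ, h1, h2, h3⟩ := 𝔅.exists_sep hb hw (notMem_span_swap hw0 hbw)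
    have hin : 𝔅.In ψ b := ⟨hb, h3, fun h => by rw [hs] at h; simp at h⟩
    exact ⟨ψ, b, 𝔅.full' hin h2, hin, hb0, h1⟩

/-- A transvection with centre in the complement and hyperplane from the block spreads over the dual. -/
theorem allA [Finite V] {α : Dual k V} {u : V} (h : Rt H α u) (hu : u ∈ 𝔅.U)
    (hα : ∀ v ∈ 𝔅.U, α v = 0) (hα0 : α ≠ 0) :
    ∀ α' : Dual k V, (∀ v ∈ 𝔅.U, α' v = 0) → Rt H α' u := by
  obtain ⟨x, hx, hαx⟩ : ∃ x ∈ 𝔅.W, α x ≠ 0 := by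
    by_contra hn
    push Not at hn
    exact hα0 (ext_compl 𝔅.compl (by simpa using hn) (by simpa using hα))
  have key : ∀ ψ b, 𝔅.In ψ b → ψ b = 0 → α b ≠ 0 → Rt H ψ u := by
    intro ψ b hin h0 hαb
    have h1 := h.conj_root (𝔅.full' hin h0)
    rw [hin.2.1 u hu, zero_smul, add_zero] at h1
    have h2 := h.sub_left h1
    rw [sub_sub_cancel] at h2
    exact h2.of_smul_left hαb
  intro α' hα'
  rcases hs : 𝔅.sl with _ | _
  · obtain ⟨b, hb, hbe⟩ := 𝔅.B_surj hs α'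
    rw [𝔅.eq_B hs hα' hbe]
    refine mem_of_avoid α hx hαx (fun b => Rt H (𝔅.B b) u) ?_ ?_ b hb
    · intro a c ha hc
      rw [map_sub]; exact ha.sub_left hc
    · intro y hy hαy
      exact key _ y (𝔅.in_B hs hy) (𝔅.alt hs y) hαy
  · by_cases hb : ∃ b ∈ 𝔅.W, α' b = 0 ∧ α b ≠ 0
    · obtain ⟨b, hbW, h1, h2⟩ := hb
      exact key α' b ⟨hbW, hα', fun h => by rw [hs] at h; simp at h⟩ h1 h2
    · push Not at hb
      have : α' = (α' x / α x) • α := by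
        refine ext_compl 𝔅.compl (fun y hy => ?_) fun v hv => by simp [hα v hv, hα' v hv]
        by_cases hx' : α' x = 0
        · exact absurd (hb x hx hx') hαx
        · have := hb (y - (α' y / α' x) • x) (sub_mem hy (smul_mem _ _ hx))
            (by simp [div_mul_cancel₀ _ hx'])
          simp only [map_sub, map_smul, smul_eq_mul] at this
          rw [LinearMap.smul_apply, smul_eq_mul]
          field_simp at this ⊢
          linear_combination -this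
      rw [this]; exact h.smul_left _

/-- A transvection with centre in the block and hyperplane from the complement spreads over the block. -/
theorem allW [Finite V] {β : Dual k V} {w : V} (h : Rt H β w) (hw : w ∈ 𝔅.W)
    (hβ : ∀ v ∈ 𝔅.W, β v = 0) (hw0 : w ≠ 0) : ∀ w' ∈ 𝔅.W, Rt H β w' := by
  have key : ∀ ψ b, 𝔅.In ψ b → ψ b = 0 → ψ w ≠ 0 → Rt H β b := by
    intro ψ b hin h0 hψw
    exact h.comm (𝔅.full' hin h0) (hβ b hin.1) hψw
  intro w' hw'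
  rcases hs : 𝔅.sl with _ | _
  · obtain ⟨x, hx, hwx⟩ := 𝔅.nd hs w hw hw0
    refine mem_of_avoid (𝔅.B w) hx hwx (fun b => Rt H β b) (fun a c ha hc => ha.sub_right hc) ?_ w' hw'
    intro y hy hy0
    exact key _ y (𝔅.in_B hs hy) (𝔅.alt hs y) (by rw [𝔅.B_swap hs]; exact neg_ne_zero.2 hy0)
  · by_cases hm : w ∈ k ∙ w'
    · obtain ⟨c, hc⟩ := Submodule.mem_span_singleton.1 hm
      refine Rt.of_smul_right (c := c) (fun h0 => hw0 ?_) (hc ▸ h)
      rw [← hc, h0, zero_smul]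
    · obtain ⟨ψ, h1, h2, h3⟩ := 𝔅.exists_sep hw' hw hm
      exact key ψ w' ⟨hw', h3, fun h => by rw [hs] at h; simp at h⟩ h2 h1

end Blk

end Cfsg.Agent.Lead.McL
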