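/-
Special linear and symplectic isometry groups of abstract spaces are generated by transvections.
-/
import Mathlib
import Cfsg.Agent.Lib.Classical.LinBasic
import Cfsg.Agent.Lib.Classical.SpGeneration
import Cfsg.Agent.Lib.Classical.SymplecticIso
import Cfsg.Agent.Lib.Classical.SympInvolutions

set_option autoImplicit false

namespace Cfsg.Agent.Lead.McL

open Module Matrix Cfsg.Agent.Classical.SpCount

universe u v

variable {F : Type u} [Field F] {M : Type v} [AddCommGroup M] [Module F M] [FiniteDimensional F M]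

/-- A subgroup with all transvections contains every element of determinant one. -/
theorem mem_of_det_one (h2 : 2 ≤ finrank F M) (G : Subgroup (M ≃ₗ[F] M))
    (hG : ∀ (φ : Dual F M) (a : M) (g : M ≃ₗ[F] M), φ a = 0 → (∀ v, g v = v + φ v • a) → g ∈ G)
    {f : M ≃ₗ[F] M} (hf : LinearMap.det (f : M →ₗ[F] M) = 1) : f ∈ G := by
  classical
  let b := Module.finBasis F M
  have : Nontrivial (Fin (finrank F M)) := Fin.nontrivial_iff_two_le.2 h2
  let ψ : Matrix.SpecialLinearGroup (Fin (finrank F M)) F →* (M ≃ₗ[F] M) :=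
    (LinearMap.GeneralLinearGroup.generalLinearEquiv F M).toMonoidHom.comp
      ((Units.map (Matrix.toLinAlgEquiv b).toMonoidHom).comp Matrix.SpecialLinearGroup.toGL)
  have hψ : ∀ A x, ψ A x = Matrix.toLinAlgEquiv b (A : Matrix (Fin (finrank F M)) (Fin (finrank F M)) F) x :=
    fun A x => rfl
  have htop : G.comap ψ = ⊤ := by
    rw [eq_top_iff, ← Cfsg.Agent.Classical.sl_closure_transvections, Subgroup.closure_le]
    rintro _ ⟨i, j, hij, c, rfl⟩
    refine hG (c • b.coord j) (b i) _ (by simp [hij.symm]) fun v => ?_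
    rw [hψ, Matrix.SpecialLinearGroup.transvection_coe, map_add, map_one, LinearMap.add_apply,
      End.one_apply, Matrix.toLinAlgEquiv_apply]
    congr 1
    rw [Finset.sum_eq_single i]
    · simp [Matrix.mulVec, Matrix.single, dotProduct]
    · intro k _ hk
      simp [Matrix.mulVec, Matrix.single, dotProduct, hk.symm]
    · simp
  let A : Matrix.SpecialLinearGroup (Fin (finrank F M)) F :=
    ⟨LinearMap.toMatrixAlgEquiv b (f : M →ₗ[F] M), by
      show (LinearMap.toMatrix b b (f : M →ₗ[F] M)).det = 1
      rw [LinearMap.det_toMatrix]; exact hf⟩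
  have hA : ψ A = f := LinearEquiv.ext fun x => by
    rw [hψ]
    exact LinearMap.congr_fun (Matrix.toLinAlgEquiv_toMatrixAlgEquiv b (f : M →ₗ[F] M)) x
  rw [← hA]
  exact (htop ▸ Subgroup.mem_top A : A ∈ G.comap ψ)

/-- A subgroup with all symplectic transvections contains every isometry. -/
theorem mem_of_isometry {B : M →ₗ[F] M →ₗ[F] F} (hB : IsAltND B) (G : Subgroup (M ≃ₗ[F] M))
    (hG : ∀ (s : F) (w : M) (g : M ≃ₗ[F] M), (∀ v, g v = v + (s * B w v) • w) → g ∈ G)
    {f : M ≃ₗ[F] M} (hf : ∀ x y, B (f x) (f y) = B x y) : f ∈ G := by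
  classical
  obtain ⟨m, hm⟩ := Cfsg.Agent.Classical.SympInvol.finrank_even hB
  obtain ⟨fam⟩ := exists_fam m hB hm
  let b := famBasis hB hm fam
  let e := isomEquiv hB hm fam
  have htop : (G.comap (isom B).subtype).comap e.symm.toMonoidHom = ⊤ := by
    rw [eq_top_iff, ← Cfsg.Agent.Classical.SpGen.closure_transvections, Subgroup.closure_le]
    rintro A ⟨v, c, hA⟩
    set g : M ≃ₗ[F] M := ((e.symm A : isom B) : M ≃ₗ[F] M) with hgdef
    show g ∈ G
    set w := b.equivFun.symm v with hw
    have hg : ∀ x, ∃ t : F, g x = x + t • w := fun x => by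
      refine ⟨c * Cfsg.sympForm m F (b.equivFun x) v, ?_⟩
      show Matrix.toLin b b A.1 x = _
      rw [Matrix.toLin_apply, hA, hw]
      have h := Cfsg.Agent.Lead.Symp.trans_mulVec v (b.equivFun x) c
      change ∑ j, (Cfsg.sympTransvection m v c *ᵥ b.equivFun x) j • b j = _
      rw [h]
      conv_rhs => rw [← b.equivFun.symm_apply_apply x]
      rw [Basis.equivFun_symm_apply, Basis.equivFun_symm_apply, Finset.smul_sum, ← Finset.sum_add_distrib]
      exact Finset.sum_congr rfl fun j _ => by simp [add_smul, smul_smul]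
    choose t ht using hg
    by_cases hw0 : w = 0
    · exact hG 0 0 g fun x => by simp [ht x, hw0]
    obtain ⟨y, hy⟩ : ∃ y, B w y ≠ 0 := by
      by_contra hn
      push Not at hn
      exact hw0 (hB.nondeg w hn)
    refine hG (t y / B w y) w g fun x => ?_
    have h1 := (mem_isom.1 (e.symm A).2) x y
    change B (g x) (g y) = B x y at h1
    simp only [ht, map_add, map_smul, LinearMap.add_apply, LinearMap.smul_apply, smul_eq_mul, hB.self w,
      mul_zero, add_zero, hB.swap x w] at h1
    have h3 : t x = t y / B w y * B w x := by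
      field_simp
      linear_combination h1
    rw [ht, h3]
  have h := (htop ▸ Subgroup.mem_top (e ⟨f, hf⟩) : e ⟨f, hf⟩ ∈ (G.comap (isom B).subtype).comap e.symm.toMonoidHom)
  simpa [Subgroup.mem_subgroupOf] using h

end Cfsg.Agent.Lead.McL
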