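/-
A block meeting a further transvection can be enlarged.
-/
import Cfsg.Agent.Lib.Lead.McL.Block

set_option autoImplicit false
set_option linter.unusedSectionVars false

namespace Cfsg.Agent.Lead.McL.Blk

open Module Submodule

variable {p : ℕ} [Fact p.Prime] {V : Type*} [AddCommGroup V] [Module (ZMod p) V] [Finite V]

local notation "k" => ZMod p

variable {H : Subgroup (V ≃ₗ[ZMod p] V)} (𝔅 : Blk H)

/-- Some strictly larger block contains all transvections of this one. -/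
def Ext : Prop := ∃ 𝔅' : Blk H, (∀ φ a, 𝔅.In φ a → 𝔅'.In φ a) ∧ 𝔅.mu < 𝔅'.mu

/-- The projection to the block. -/
noncomputable def P : V →ₗ[k] V := 𝔅.W.projection 𝔅.U 𝔅.compl

theorem P_mem (v : V) : 𝔅.P v ∈ 𝔅.W := Submodule.projection_apply_mem 𝔅.compl v
theorem sub_P_mem (v : V) : v - 𝔅.P v ∈ 𝔅.U := Submodule.sub_projection_mem 𝔅.compl v
theorem P_W {w : V} (hw : w ∈ 𝔅.W) : 𝔅.P w = w := Submodule.projection_apply_of_mem_left 𝔅.compl hw
theorem P_U {u : V} (hu : u ∈ 𝔅.U) : 𝔅.P u = 0 := (Submodule.projection_apply_eq_zero_iff 𝔅.compl).2 hu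

theorem disj {x : V} (hW : x ∈ 𝔅.W) (hU : x ∈ 𝔅.U) : x = 0 :=
  Submodule.disjoint_def.1 𝔅.compl.disjoint x hW hU

theorem finrank_lt {W' : Submodule k V} (hle : 𝔅.W ≤ W') {x : V} (hx : x ∈ W') (hx' : x ∉ 𝔅.W) :
    finrank k 𝔅.W < finrank k W' := by
  have : Module.Finite k V := Module.Finite.of_finite
  exact Submodule.finrank_lt_finrank_of_lt (lt_of_le_of_ne hle fun e => hx' (e ▸ hx))

/-- Enlargement to a special linear block by one dimension. -/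
theorem growSL {u : V} (hu : u ∈ 𝔅.U) {β : Dual k V} (hβW : ∀ v ∈ 𝔅.W, β v = 0) (hβu : β u ≠ 0)
    (hA : ∀ α : Dual k V, (∀ v ∈ 𝔅.U, α v = 0) → Rt H α u) (hW : ∀ w ∈ 𝔅.W, Rt H β w) : 𝔅.Ext := by
  have hu0 : u ≠ 0 := fun h => hβu (by rw [h, map_zero])
  have huW : u ∉ 𝔅.W := fun h => hu0 (𝔅.disj h hu)
  have hd : 3 ≤ finrank k ↥(𝔅.W ⊔ k ∙ u) := by
    have := 𝔅.finrank_lt le_sup_left (mem_sup_right (mem_span_singleton_self u)) huW
    have := 𝔅.dim
    omega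
  have hc : IsCompl (𝔅.W ⊔ k ∙ u) (𝔅.U ⊓ LinearMap.ker β) := by
    refine ⟨?_, ?_⟩
    · rw [Submodule.disjoint_def]
      rintro x hx ⟨hxU, hxβ⟩
      obtain ⟨w, hw, y, hy, rfl⟩ := mem_sup.1 hx
      obtain ⟨r, rfl⟩ := mem_span_singleton.1 hy
      have hw0 : w = 0 := 𝔅.disj hw (by
        have := sub_mem hxU (smul_mem _ r hu)
        rwa [add_sub_cancel_right] at this)
      subst hw0
      have : r * β u = 0 := by simpa [LinearMap.mem_ker] using hxβ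
      rw [(mul_eq_zero.1 this).resolve_right hβu, zero_smul, zero_add]
    · rw [codisjoint_iff, eq_top_iff]
      intro v _
      obtain ⟨w, hw, u', hu', rfl⟩ := exists_add 𝔅.compl v
      refine mem_sup.2 ⟨w + (β u' / β u) • u, mem_sup.2 ⟨w, hw, _, smul_mem _ _ (mem_span_singleton_self u), rfl⟩,
        u' - (β u' / β u) • u, ⟨sub_mem hu' (smul_mem _ _ hu), ?_⟩, by abel⟩
      simp [div_mul_cancel₀ _ hβu]
  refine ⟨{ W := _, U := _, sl := true, B := 0, compl := hc, dim := (by omega), dimSL := fun _ => hd,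
            alt := by simp, rad := by simp, nd := by simp, full := ?_ }, ?_, ?_⟩
  · intro φ a hφa ha hφU _
    obtain ⟨w, hw, y, hy, rfl⟩ := mem_sup.1 ha
    obtain ⟨r, rfl⟩ := mem_span_singleton.1 hy
    set α := φ.comp 𝔅.P with hα
    have hαU : ∀ v ∈ 𝔅.U, α v = 0 := fun v hv => by simp [hα, 𝔅.P_U hv]
    have hαW : ∀ v ∈ 𝔅.W, α v = φ v := fun v hv => by simp [hα, 𝔅.P_W hv]
    have he : φ = α + (φ u / β u) • β := by
      refine ext_compl 𝔅.compl (fun v hv => by simp [hαW v hv, hβW v hv]) fun v hv => ?_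
      have h1 := hφU (v - (β v / β u) • u)
        ⟨sub_mem hv (smul_mem _ _ hu), by simp [div_mul_cancel₀ _ hβu]⟩
      simp only [map_sub, map_smul, smul_eq_mul] at h1
      rw [LinearMap.add_apply, LinearMap.smul_apply, hαU v hv, smul_eq_mul, zero_add]
      field_simp at h1 ⊢
      linear_combination h1
    by_cases hαw : α w = 0
    · have h1 : Rt H α w := (hA α hαU).comm (hW w hw) hαw hβu
      rw [map_add, map_smul, ← hαW w hw, hαw, zero_add, smul_eq_mul] at hφa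
      rcases mul_eq_zero.1 hφa with hr | hs
      · rw [hr, zero_smul, add_zero, he]
        exact h1.add_left ((hW w hw).smul_left _)
      · rw [he, hs, zero_div, zero_smul, add_zero]
        exact h1.add_right ((hA α hαU).smul_right r)
    · have h2 := (hA α hαU).plane (hW w hw) hαw hβu r 1 (χ := φ) (fun v h1 h2 => ?_) ?_
      · rwa [one_smul, add_comm] at h2
      · rw [he, LinearMap.add_apply, LinearMap.smul_apply, h1, h2, smul_zero, add_zero]
      · rw [one_smul, add_comm]; exact hφa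
  · rintro φ a ⟨h1, h2, -⟩
    exact ⟨mem_sup_left h1, fun v hv => h2 v hv.1, by simp⟩
  · have := 𝔅.finrank_lt le_sup_left (mem_sup_right (mem_span_singleton_self u)) huW
    simp only [mu, ↓reduceIte]
    split <;> omega

/-- A transvection with hyperplane from the block and centre from the complement forces an enlargement. -/
theorem extA (hp : p ≠ 2) (hO : Cfsg.pCore p ↥H = ⊥) {α : Dual k V} {u : V} (h : Rt H α u) (hu : u ∈ 𝔅.U)
    (hu0 : u ≠ 0) (hα : ∀ v ∈ 𝔅.U, α v = 0) (hα0 : α ≠ 0) : 𝔅.Ext := by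
  have hA := 𝔅.allA h hu hα hα0
  obtain ⟨χ, c, hc, hαc, hχu⟩ := h.exists_partner hp hO hα0 hu0
  set γ := (χ u)⁻¹ • χ.comp 𝔅.P with hγ
  have hγU : ∀ v ∈ 𝔅.U, γ v = 0 := fun v hv => by simp [hγ, 𝔅.P_U hv]
  have h1 := hc.conj_root (hA γ hγU)
  set β := χ - χ u • γ with hβ
  set c' := c + γ c • u
  have hβW : ∀ v ∈ 𝔅.W, β v = 0 := fun v hv => by simp [hβ, hγ, 𝔅.P_W hv, hχu]
  have hβu : β u ≠ 0 := by
    simp only [hβ, LinearMap.sub_apply, LinearMap.smul_apply, hγU u hu, smul_zero, sub_zero]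
    exact hχu
  have hw0 : 𝔅.P c ≠ 0 := fun h0 => hαc (hα c (by simpa [h0] using 𝔅.sub_P_mem c))
  obtain ⟨ψ, b, hb, hin, hb0, hψw⟩ := 𝔅.exists_moving (𝔅.P_mem c) hw0
  have hψc : ψ c' = ψ (𝔅.P c) := by
    have := hin.2.1 _ (𝔅.sub_P_mem c)
    rw [map_sub, sub_eq_zero] at this
    simp [c', hin.2.1 u hu, this]
  have h2 : Rt H β b := h1.comm hb (hβW b hin.1) (hψc ▸ hψw)
  exact 𝔅.growSL hu hβW hβu hA (𝔅.allW h2 hin.1 hβW hb0)

/-- A transvection with centre from the block and hyperplane from the complement forces an enlargement. -/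
theorem extW (hp : p ≠ 2) (hO : Cfsg.pCore p ↥H = ⊥) {β : Dual k V} {w : V} (h : Rt H β w) (hw : w ∈ 𝔅.W)
    (hw0 : w ≠ 0) (hβ : ∀ v ∈ 𝔅.W, β v = 0) (hβ0 : β ≠ 0) : 𝔅.Ext := by
  have hW := 𝔅.allW h hw hβ hw0
  obtain ⟨χ, c, hc, hβc, hχw⟩ := h.exists_partner hp hO hβ0 hw0
  set w' := -(β c)⁻¹ • 𝔅.P c with hw'
  have hw'W : w' ∈ 𝔅.W := smul_mem _ _ (𝔅.P_mem c)
  have h1 := hc.conj_root (hW w' hw'W)
  have hcu : c + β c • w' = c - 𝔅.P c := by
    rw [hw', smul_smul, mul_neg, mul_inv_cancel₀ hβc, neg_smul, one_smul, sub_eq_add_neg]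
  rw [hcu] at h1
  set u := c - 𝔅.P c
  set χ' := χ - χ w' • β with hχ'
  have hu : u ∈ 𝔅.U := 𝔅.sub_P_mem c
  have hβu : β u ≠ 0 := by simp [u, hβ _ (𝔅.P_mem c), hβc]
  have hχ'w : χ' w ≠ 0 := by simp [hχ', hβ w hw, hχw]
  obtain ⟨ψ, hψ, hin, x, hx, hψx⟩ := 𝔅.exists_at hw hw0
  have h2 := h1.conj_root hψ
  rw [hin.2.1 u hu, zero_smul, add_zero] at h2
  have h3 := h1.sub_left h2
  rw [sub_sub_cancel] at h3
  have h4 := h3.of_smul_left hχ'w
  exact 𝔅.growSL hu hβ hβu (𝔅.allA h4 hu hin.2.1 fun h0 => hψx (by rw [h0]; rfl)) hW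

/-- A non-symplectic transvection of a symplectic block upgrades it. -/
theorem upgrade (hs : 𝔅.sl = false) {w : V} (hw : w ∈ 𝔅.W) (hw0 : w ≠ 0)
    {b0 : V} (hb0 : b0 ∈ 𝔅.W) (hb0w : 𝔅.B b0 w = 0) (hnot : b0 ∉ k ∙ w)
    (hall : ∀ b ∈ 𝔅.W, 𝔅.B b w = 0 → Rt H (𝔅.B b) w) : 𝔅.Ext := by
  have : Module.Finite k V := Module.Finite.of_finite
  obtain ⟨x, hx, hwx⟩ := 𝔅.nd hs w hw hw0
  have hxnot : x ∉ span k ({w, b0} : Set V) := by
    intro hm
    obtain ⟨r, s, hrs⟩ := mem_span_pair.1 hm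
    apply hwx
    rw [← hrs, map_add, map_smul, map_smul, 𝔅.alt hs, 𝔅.B_swap hs w b0, hb0w]
    simp
  have hdim : 3 ≤ finrank k 𝔅.W := by
    have h1 : finrank k (k ∙ w) < finrank k (span k ({w, b0} : Set V)) :=
      Submodule.finrank_lt_finrank_of_lt (lt_of_le_of_ne (span_mono (by simp)) fun e =>
        hnot (e ▸ subset_span (by simp)))
    have h2 : finrank k (span k ({w, b0} : Set V)) < finrank k 𝔅.W :=
      Submodule.finrank_lt_finrank_of_lt (lt_of_le_of_ne (span_le.2 (by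
        rintro y (rfl | rfl) <;> assumption)) fun e => hxnot (e ▸ hx))
    rw [finrank_span_singleton hw0] at h1
    omega
  refine ⟨{ W := 𝔅.W, U := 𝔅.U, sl := true, B := 0, compl := 𝔅.compl, dim := 𝔅.dim, dimSL := fun _ => hdim,
            alt := by simp, rad := by simp, nd := by simp, full := ?_ }, ?_, ?_⟩
  · intro φ a hφa ha hφU _
    by_cases ha0 : a = 0
    · rw [ha0]; exact rt_zero_right φ
    refine orbit 𝔅.W 𝔅.B (𝔅.alt hs) (𝔅.nd hs)
      (fun a => ∀ φ : Dual k V, (∀ u ∈ 𝔅.U, φ u = 0) → φ a = 0 → Rt H φ a) hw hw0 ?_ ?_ a ha ha0 φ hφU hφa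
    · intro φ hU h0
      obtain ⟨b, hb, hbe⟩ := 𝔅.B_surj hs φ
      rw [𝔅.eq_B hs hU hbe] at h0 ⊢
      exact hall b hb h0
    · intro a ha x hx s hP φ hU h0
      set φ' := φ + φ x • s • 𝔅.B x with hφ'
      have h1 : Rt H φ' a := by
        refine hP φ' (fun u hu => by simp [hφ', hU u hu, 𝔅.B_right hs x hu]) ?_
        simp only [map_add, map_smul, smul_eq_mul] at h0
        simp [hφ']
        linear_combination h0
      have h2 := h1.conj_root ((𝔅.rt_B hs hx).smul_left s)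
      have e : φ' x = φ x := by simp [hφ', 𝔅.alt hs x]
      rw [e, hφ', add_sub_cancel_right, LinearMap.smul_apply, smul_eq_mul] at h2
      exact h2
  · rintro φ a ⟨h1, h2, -⟩
    exact ⟨h1, h2, by simp⟩
  · simp [mu, hs]

/-- The extraction of a pure transvection from a symplectically coupled one. -/
theorem extract (hp : p ≠ 2) (hs : 𝔅.sl = false) {β : Dual k V} (hβ : ∀ v ∈ 𝔅.W, β v = 0) {u : V}
    (hu : u ∈ 𝔅.U) {y : V} (hy : y ∈ 𝔅.W) (hall : ∀ z ∈ 𝔅.W, z ≠ 0 → Rt H (𝔅.B z + β) (z + u))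
    (hy0 : y ≠ 0) : Rt H β u := by
  have h2 : (2 : k) ≠ 0 := by
    intro h
    have h' : ((2 : ℕ) : k) = 0 := by exact_mod_cast h
    rw [ZMod.natCast_eq_zero_iff] at h'
    exact hp ((Nat.prime_dvd_prime_iff_eq Fact.out Nat.prime_two).1 h')
  have hy2 : (2 : k) • y ∈ 𝔅.W := smul_mem _ _ hy
  obtain ⟨h1, g1, hg1, e1⟩ := hall y hy hy0
  obtain ⟨-, g2, hg2, e2⟩ := hall _ hy2 (smul_ne_zero h2 hy0)
  obtain ⟨-, t1, ht1, f1⟩ := (𝔅.rt_B hs hy).neg_left.2 |> fun h => And.intro (𝔅.alt hs y) h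
  obtain ⟨-, t2, ht2, f2⟩ := (𝔅.rt_B hs hy2).neg_left.2 |> fun h => And.intro (𝔅.alt hs y) h
  have hBy : 𝔅.B y y = 0 := 𝔅.alt hs y
  have hBu : 𝔅.B y u = 0 := 𝔅.B_right hs y hu
  have hβy : β y = 0 := hβ y hy
  have hβu : β u = 0 := by simpa [hBy, hBu, hβy] using h1
  refine ⟨hβu, g1 * t1 * g1 * t1 * (g2 * t2)⁻¹,
    H.mul_mem (H.mul_mem (H.mul_mem (H.mul_mem hg1 ht1) hg1) ht1) (H.inv_mem (H.mul_mem hg2 ht2)), fun v => ?_⟩
  obtain ⟨x, rfl⟩ : ∃ x, g2 (t2 x) = v := ⟨(g2 * t2)⁻¹ v, (g2 * t2).apply_symm_apply v⟩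
  have hinv : (g2 * t2)⁻¹ (g2 (t2 x)) = x := (g2 * t2).symm_apply_apply x
  simp only [LinearEquiv.mul_apply, hinv]
  simp [e1, e2, f1, f2, hBy, hBu, hβy, hβu]
  module

/-- Enlargement to a symplectic block by two dimensions. -/
theorem growSp (hs : 𝔅.sl = false) {β β' : Dual k V} {u v : V} (hu : u ∈ 𝔅.U) (hv : v ∈ 𝔅.U)
    (hβ : ∀ x ∈ 𝔅.W, β x = 0) (hβ' : ∀ x ∈ 𝔅.W, β' x = 0) (r1 : Rt H β u) (r2 : Rt H β' v)
    (hβv : β v ≠ 0) (hβ'u : β' u ≠ 0)
    (hmix : ∀ y ∈ 𝔅.W, y ≠ 0 → Rt H (𝔅.B y + β) (y + u)) : 𝔅.Ext := by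
  have hβu := r1.1
  have hβ'v := r2.1
  set B' : V →ₗ[k] V →ₗ[k] k :=
    𝔅.B + (-(β' u)⁻¹) • (β.smulRight β' - β'.smulRight β) with hB'
  have hB'W : ∀ y ∈ 𝔅.W, B' y = 𝔅.B y := fun y hy => by simp [hB', hβ y hy, hβ' y hy]
  have hB'u : B' u = β := by
    simp [hB', 𝔅.rad hs u hu, hβu, smul_smul, hβ'u]
  have halt : ∀ x, B' x x = 0 := fun x => by simp [hB', 𝔅.alt hs x, mul_comm (β x)]
  have hsw : ∀ a b, B' a b = -B' b a := fun a b => by
    have := halt (a + b)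
    simp [halt a, halt b] at this
    linear_combination this
  set Pl := span k ({u, v} : Set V) with hPl
  have hPU : Pl ≤ 𝔅.U := span_le.2 (by rintro y (rfl | rfl) <;> assumption)
  have huP : u ∈ Pl := subset_span (by simp)
  have hvP : v ∈ Pl := subset_span (by simp)
  have hndP : ∀ a ∈ Pl, a ≠ 0 → ∃ x ∈ Pl, B' a x ≠ 0 := by
    intro a ha ha0
    obtain ⟨r, s, rfl⟩ := mem_span_pair.1 ha
    have hvv := halt v
    have huu := halt u
    have hvu : B' v u = -β v := by rw [hsw, hB'u]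
    by_cases hr : r = 0
    · have hs0 : s ≠ 0 := fun h => ha0 (by simp [hr, h])
      exact ⟨u, huP, by simp [hr, hvu, hs0, hβv]⟩
    · exact ⟨v, hvP, by simp [hvv, hB'u, hr, hβv]⟩
  have hu0 : u ≠ 0 := fun h => hβ'u (by rw [h, map_zero])
  have huW : u ∉ 𝔅.W := fun h => hu0 (𝔅.disj h hu)
  have hc : IsCompl (𝔅.W ⊔ Pl) (𝔅.U ⊓ LinearMap.ker β ⊓ LinearMap.ker β') := by
    refine ⟨?_, ?_⟩
    · rw [Submodule.disjoint_def]
      rintro x hx ⟨⟨hxU, hxβ⟩, hxβ'⟩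
      obtain ⟨w, hw, y, hy, rfl⟩ := mem_sup.1 hx
      have hw0 : w = 0 := 𝔅.disj hw (by
        have := sub_mem hxU (hPU hy)
        rwa [add_sub_cancel_right] at this)
      subst hw0
      obtain ⟨r, s, rfl⟩ := mem_span_pair.1 hy
      have hxβ : s = 0 := by simpa [LinearMap.mem_ker, hβu, hβv] using hxβ
      have hxβ' : r = 0 := by simpa [LinearMap.mem_ker, hβ'v, hβ'u] using hxβ'
      simp [hxβ, hxβ']
    · rw [codisjoint_iff, eq_top_iff]
      intro z _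
      obtain ⟨w, hw, u', hu', rfl⟩ := exists_add 𝔅.compl z
      refine mem_sup.2 ⟨w + ((β' u' / β' u) • u + (β u' / β v) • v),
        mem_sup.2 ⟨w, hw, _, add_mem (smul_mem _ _ huP) (smul_mem _ _ hvP), rfl⟩,
        u' - ((β' u' / β' u) • u + (β u' / β v) • v),
        ⟨⟨sub_mem hu' (add_mem (smul_mem _ _ hu) (smul_mem _ _ hv)), ?_⟩, ?_⟩, by abel⟩
      · simp [hβu, div_mul_cancel₀ _ hβv]
      · simp [hβ'v, div_mul_cancel₀ _ hβ'u]
  have hBWU : ∀ x ∈ 𝔅.W, ∀ y ∈ 𝔅.U, B' x y = 0 := fun x hx y hy => by rw [hB'W x hx, 𝔅.B_right hs x hy]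
  have hplane : ∀ z ∈ Pl, Rt H (B' z) z := by
    intro z hz
    obtain ⟨r, s, rfl⟩ := mem_span_pair.1 hz
    refine r1.plane r2 hβv hβ'u r s (fun x h1 h2 => ?_) (halt _)
    have hBz : 𝔅.B (r • u + s • v) = 0 := 𝔅.rad hs _ (hPU hz)
    simp [hB', hBz, h1, h2]
  refine ⟨{ W := 𝔅.W ⊔ Pl, U := _, sl := false, B := B', compl := hc, dim := ?_, dimSL := by simp,
            alt := fun _ => halt, rad := ?_, nd := ?_, full := ?_ }, ?_, ?_⟩
  · have := 𝔅.finrank_lt (W' := 𝔅.W ⊔ Pl) le_sup_left (mem_sup_right huP) huW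
    have := 𝔅.dim
    omega
  · rintro - x ⟨⟨hxU, hxβ⟩, hxβ'⟩
    simp [hB', 𝔅.rad hs x hxU, LinearMap.mem_ker.1 hxβ, LinearMap.mem_ker.1 hxβ']
  · intro _ a ha ha0
    obtain ⟨y, hy, z, hz, rfl⟩ := mem_sup.1 ha
    by_cases hy0 : y = 0
    · subst hy0
      rw [zero_add] at ha0 ⊢
      obtain ⟨x, hx, h⟩ := hndP z hz ha0
      exact ⟨x, mem_sup_right hx, h⟩
    · obtain ⟨x, hx, h⟩ := 𝔅.nd hs y hy hy0
      refine ⟨x, mem_sup_left hx, ?_⟩
      rw [map_add, LinearMap.add_apply, hB'W y hy, hsw z x, hBWU x hx z (hPU hz), neg_zero, add_zero]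
      exact h
  · intro φ a hφa ha _ hφs
    obtain ⟨t, rfl⟩ := hφs rfl
    refine Rt.smul_left ?_ t
    obtain ⟨y, hy, z, hz, rfl⟩ := mem_sup.1 ha
    by_cases hy0 : y = 0
    · subst hy0; rw [zero_add]; exact hplane z hz
    by_cases hz0 : z = 0
    · subst hz0; rw [add_zero, hB'W y hy]; exact 𝔅.rt_B hs hy
    refine orbit Pl B' halt hndP (fun z => Rt H (B' (y + z)) (y + z)) huP hu0 ?_ ?_ z hz hz0
    · rw [map_add, hB'W y hy, hB'u]; exact hmix y hy hy0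
    · intro a ha x hx s h
      have h1 := h.conj_root ((hplane x hx).smul_left s)
      have hxy : B' x y = 0 := by rw [hsw, hBWU y hy x (hPU hx), neg_zero]
      have e1 : (s • B' x) (y + a) = s * B' x a := by simp [hxy]
      rw [e1] at h1
      convert h1 using 1
      · have e3 : B' y x = 0 := hBWU y hy x (hPU hx)
        ext q
        simp [e3, hsw a x]
        ring
      · abel
  · rintro φ a ⟨h1, h2, h3⟩
    obtain ⟨t, rfl⟩ := h3 hs
    exact ⟨mem_sup_left h1, fun x hx => h2 x hx.1.1, fun _ => ⟨t, by rw [hB'W a h1]⟩⟩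
  · have := 𝔅.finrank_lt (W' := 𝔅.W ⊔ Pl) le_sup_left (mem_sup_right huP) huW
    simp only [mu, hs, Bool.false_eq_true, ↓reduceIte]
    omega

/-- The coupled case. -/
def Mixed (χ : Dual k V) (c : V) : Prop :=
  𝔅.sl = false ∧ c - 𝔅.P c ≠ 0 ∧ χ - χ.comp 𝔅.P ≠ 0 ∧
    ∃ l : k, l ≠ 0 ∧ Rt H (χ - χ.comp 𝔅.P) (c - 𝔅.P c) ∧
      ∀ y ∈ 𝔅.W, y ≠ 0 → Rt H (𝔅.B y + l • (χ - χ.comp 𝔅.P)) (y + (c - 𝔅.P c))

theorem classify (hp : p ≠ 2) (hO : Cfsg.pCore p ↥H = ⊥) {χ : Dual k V} {c : V} (h : Rt H χ c)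
    (hχ0 : χ ≠ 0) (hc0 : c ≠ 0) : 𝔅.In χ c ∨ 𝔅.Orth χ c ∨ 𝔅.Ext ∨ 𝔅.Mixed χ c := by
  set w := 𝔅.P c with hw_def
  set u := c - w with hu_def
  set α := χ.comp 𝔅.P with hα_def
  set β := χ - α with hβ_def
  have hw : w ∈ 𝔅.W := 𝔅.P_mem c
  have hu : u ∈ 𝔅.U := 𝔅.sub_P_mem c
  have hcwu : c = w + u := by rw [hu_def, add_sub_cancel]
  have hαU : ∀ v ∈ 𝔅.U, α v = 0 := fun v hv => by simp [hα_def, 𝔅.P_U hv]
  have hαW : ∀ v ∈ 𝔅.W, α v = χ v := fun v hv => by simp [hα_def, 𝔅.P_W hv]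
  have hβW : ∀ v ∈ 𝔅.W, β v = 0 := fun v hv => by simp [hβ_def, hαW v hv]
  have hχe : χ = α + β := by rw [hβ_def, add_sub_cancel]
  by_cases hw0 : w = 0
  · rw [hw0, zero_add] at hcwu
    by_cases hα0 : α = 0
    · exact Or.inr (Or.inl ⟨hcwu ▸ hu, fun v hv => by rw [← hαW v hv, hα0]; rfl⟩)
    obtain ⟨b, hb, hαb⟩ : ∃ b ∈ 𝔅.W, α b ≠ 0 := by
      by_contra hn
      push Not at hn
      exact hα0 (ext_compl 𝔅.compl (by simpa using hn) (by simpa using hαU))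
    have hb0 : b ≠ 0 := fun h => hαb (by rw [h, map_zero])
    obtain ⟨ψ, hψ, hin, x, hx, hψx⟩ := 𝔅.exists_at hb hb0
    have h2 := h.conj_root hψ
    rw [hcwu, hin.2.1 u hu, zero_smul, add_zero] at h2
    have h3 := (hcwu ▸ h).sub_left h2
    rw [sub_sub_cancel] at h3
    exact Or.inr (Or.inr (Or.inl (𝔅.extA hp hO (h3.of_smul_left (hαW b hb ▸ hαb)) hu
      (fun h0 => hc0 (hcwu.trans h0)) hin.2.1 fun h0 => hψx (by rw [h0]; rfl))))
  by_cases hα0 : α = 0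
  · obtain ⟨ψ, b, hb, hin, hb0, hψw⟩ := 𝔅.exists_moving hw hw0
    have hψc : ψ c ≠ 0 := by rw [hcwu, map_add, hin.2.1 u hu, add_zero]; exact hψw
    have hχW : ∀ v ∈ 𝔅.W, χ v = 0 := fun v hv => by rw [← hαW v hv, hα0]; rfl
    exact Or.inr (Or.inr (Or.inl (𝔅.extW hp hO (h.comm hb (hχW b hin.1) hψc) hin.1 hb0 hχW hχ0)))
  have hχc := h.1
  -- cases with one of the two complement parts trivial
  have caseU : β = 0 → u = 0 → 𝔅.In χ c ∨ 𝔅.sl = false := by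
    intro hβ0 hu0
    rcases hs : 𝔅.sl with _ | _
    · exact Or.inr rfl
    · refine Or.inl ⟨by rw [hcwu, hu0, add_zero]; exact hw, fun v hv => ?_, fun h => by rw [hs] at h; simp at h⟩
      rw [hχe, hβ0, add_zero, hαU v hv]
  rcases hs : 𝔅.sl with _ | _
  · obtain ⟨b0, hb0, hbe⟩ := 𝔅.B_surj hs α
    have hαB : α = 𝔅.B b0 := 𝔅.eq_B hs hαU hbe
    have hb00 : b0 ≠ 0 := fun h => hα0 (by rw [hαB, h, map_zero])
    by_cases hmem : b0 ∈ k ∙ w
    · -- symplectically coupled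
      obtain ⟨l, hl⟩ := mem_span_singleton.1 hmem
      have hl0 : l ≠ 0 := fun h => hb00 (by rw [← hl, h, zero_smul])
      by_cases hu0 : u = 0
      · by_cases hβ0 : β = 0
        · refine Or.inl ⟨by rw [hcwu, hu0, add_zero]; exact hw,
            fun v hv => by rw [hχe, hβ0, add_zero, hαU v hv], fun _ => ⟨l, ?_⟩⟩
          rw [hχe, hβ0, add_zero, hαB, hcwu, hu0, add_zero, ← hl, map_smul]
        · have h1 : Rt H α w := by rw [hαB, ← hl, map_smul]; exact (𝔅.rt_B hs hw).smul_left l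
          rw [hcwu, hu0, add_zero] at h
          have h2 := h.sub_left h1
          exact Or.inr (Or.inr (Or.inl (𝔅.extW hp hO h2 hw hw0 hβW hβ0)))
      by_cases hβ0 : β = 0
      · rw [hχe, hβ0, add_zero, hαB, ← hl, map_smul] at h
        have h1 := (h.of_smul_left hl0).sub_right (𝔅.rt_B hs hw)
        exact Or.inr (Or.inr (Or.inl (𝔅.extA hp hO h1 hu hu0 (fun v hv => 𝔅.B_right hs w hv) fun h0 => by
          obtain ⟨x, hx, hwx⟩ := 𝔅.nd hs w hw hw0
          exact hwx (by rw [h0]; rfl))))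
      have h1 : Rt H (𝔅.B w + l⁻¹ • β) (w + u) := by
        have := h.smul_left l⁻¹
        rw [hcwu, hχe, hαB, ← hl, map_smul, smul_add, smul_smul, inv_mul_cancel₀ hl0, one_smul] at this
        exact this
      have hall : ∀ y ∈ 𝔅.W, y ≠ 0 → Rt H (𝔅.B y + l⁻¹ • β) (y + u) := by
        refine orbit 𝔅.W 𝔅.B (𝔅.alt hs) (𝔅.nd hs) (fun y => Rt H (𝔅.B y + l⁻¹ • β) (y + u)) hw hw0 h1 ?_
        intro a ha x hx s hP
        have h2 := hP.conj_root ((𝔅.rt_B hs hx).smul_left s)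
        convert h2 using 1
        · ext q
          simp [hβW x hx, 𝔅.B_swap hs a x]
          ring
        · simp [𝔅.B_right hs x hu]
          abel
      have h2 := 𝔅.extract hp hs (β := l⁻¹ • β) (fun v hv => by simp [hβW v hv]) hu hw hall hw0
      exact Or.inr (Or.inr (Or.inr ⟨hs, hu0, hβ0, l⁻¹, inv_ne_zero hl0, h2.of_smul_left (inv_ne_zero hl0),
        hall⟩))
    -- not coupled
    obtain ⟨x0, hx0, hwx0⟩ := 𝔅.nd hs w hw hw0
    obtain ⟨b1, hb1, hαb1, hwb1⟩ : ∃ b ∈ 𝔅.W, α b = 0 ∧ 𝔅.B w b ≠ 0 := by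
      by_contra hn
      push Not at hn
      obtain ⟨x, hx, hbx⟩ := 𝔅.nd hs b0 hb0 hb00
      have hαx : α x ≠ 0 := by rw [hαB]; exact hbx
      have key : ∀ y ∈ 𝔅.W, 𝔅.B ((𝔅.B w x / α x) • b0) y = 𝔅.B w y := by
        intro y hy
        have := hn (y - (α y / α x) • x) (sub_mem hy (smul_mem _ _ hx)) (by simp [div_mul_cancel₀ _ hαx])
        simp only [map_sub, map_smul, smul_eq_mul] at this
        rw [map_smul, LinearMap.smul_apply, smul_eq_mul, ← hαB]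
        field_simp at this ⊢
        linear_combination -this
      have hwe : w = (𝔅.B w x / α x) • b0 := by
        by_contra hne
        obtain ⟨y, hy, hy'⟩ := 𝔅.nd hs _ (sub_mem hw (smul_mem _ _ hb0)) (sub_ne_zero.2 hne)
        exact hy' (by rw [map_sub, LinearMap.sub_apply, key y hy, sub_self])
      refine hmem (mem_span_singleton.2 ⟨(𝔅.B w x / α x)⁻¹, ?_⟩)
      have hne : 𝔅.B w x / α x ≠ 0 := fun h0 => hw0 (by rw [hwe, h0, zero_smul])
      nth_rw 2 [hwe]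
      rw [smul_smul, inv_mul_cancel₀ hne, one_smul]
    have hS : ∀ b ∈ 𝔅.W, α b = 0 → Rt H χ b := by
      intro b hb hαb
      have step : ∀ y ∈ 𝔅.W, α y = 0 → 𝔅.B w y ≠ 0 → Rt H χ y := by
        intro y hy hαy hwy
        refine h.comm (𝔅.rt_B hs hy) (hαW y hy ▸ hαy) ?_
        rw [hcwu, map_add, 𝔅.B_right hs y hu, add_zero, 𝔅.B_swap hs]
        exact neg_ne_zero.2 hwy
      by_cases hwb : 𝔅.B w b = 0
      · have := (step (b + b1) (add_mem hb hb1) (by rw [map_add, hαb, hαb1, add_zero])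
          (by rwa [map_add, hwb, zero_add])).sub_right (step b1 hb1 hαb1 hwb1)
        rwa [add_sub_cancel_right] at this
      · exact step b hb hαb hwb
    have h2 := hS b0 hb0 (by rw [hαB]; exact 𝔅.alt hs b0)
    by_cases hβ0 : β = 0
    swap
    · have h3 := h2.sub_left (hαB ▸ 𝔅.rt_B hs hb0)
      exact Or.inr (Or.inr (Or.inl (𝔅.extW hp hO h3 hb0 hb00 hβW hβ0)))
    have hχα : χ = α := by rw [hχe, hβ0, add_zero]
    have hαw : α w = 0 := by
      rw [hχα, hcwu, map_add, hαU u hu, add_zero] at hχc; exact hχc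
    have hb0w : 𝔅.B b0 w = 0 := by rw [← hαB]; exact hαw
    obtain ⟨b2, hb2, hb2w, hαb2⟩ : ∃ b ∈ 𝔅.W, 𝔅.B b w = 0 ∧ α b ≠ 0 := by
      by_contra hn
      push Not at hn
      obtain ⟨z, hz, hwz⟩ := 𝔅.nd hs w hw hw0
      have key : ∀ y ∈ 𝔅.W, 𝔅.B ((α z / 𝔅.B w z) • w) y = 𝔅.B b0 y := by
        intro y hy
        have := hn (y - (𝔅.B w y / 𝔅.B w z) • z) (sub_mem hy (smul_mem _ _ hz)) (by
          rw [𝔅.B_swap hs, map_sub, map_smul, smul_eq_mul, div_mul_cancel₀ _ hwz, sub_self, neg_zero])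
        simp only [map_sub, map_smul, smul_eq_mul] at this
        rw [map_smul, LinearMap.smul_apply, smul_eq_mul, ← hαB]
        field_simp at this ⊢
        linear_combination -this
      refine hmem (mem_span_singleton.2 ⟨α z / 𝔅.B w z, ?_⟩)
      by_contra hne
      obtain ⟨y, hy, hy'⟩ := 𝔅.nd hs _ (sub_mem (smul_mem _ _ hw) hb0) (sub_ne_zero.2 hne)
      exact hy' (by rw [map_sub, LinearMap.sub_apply, key y hy, sub_self])
    have hall : ∀ b ∈ 𝔅.W, 𝔅.B b w = 0 → Rt H (𝔅.B b) c := by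
      have step : ∀ y ∈ 𝔅.W, 𝔅.B y w = 0 → α y ≠ 0 → Rt H (𝔅.B y) c := by
        intro y hy hyw hαy
        have h4 := h.conj_root (𝔅.rt_B hs hy)
        rw [show 𝔅.B y c = 0 by rw [hcwu, map_add, hyw, 𝔅.B_right hs y hu, add_zero], zero_smul,
          add_zero] at h4
        have h5 := h.sub_left h4
        rw [sub_sub_cancel] at h5
        exact h5.of_smul_left (by rwa [hχα])
      intro b hb hbw
      by_cases hαb : α b = 0
      · have := (step (b + b2) (add_mem hb hb2) (by rw [map_add, LinearMap.add_apply, hbw, hb2w, add_zero])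
          (by rwa [map_add, hαb, zero_add])).sub_left (step b2 hb2 hb2w hαb2)
        rwa [map_add, add_sub_cancel_right] at this
      · exact step b hb hbw hαb
    by_cases hu0 : u = 0
    · rw [hcwu, hu0, add_zero] at hall
      exact Or.inr (Or.inr (Or.inl (𝔅.upgrade hs hw hw0 hb0 hb0w hmem hall)))
    · have h6 := (hall w hw (𝔅.alt hs w)).sub_right (𝔅.rt_B hs hw)
      exact Or.inr (Or.inr (Or.inl (𝔅.extA hp hO h6 hu hu0 (fun v hv => 𝔅.B_right hs w hv) fun h0 =>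
        hwx0 (by rw [h0]; rfl))))
  · have hin : ∀ {ψ : Dual k V} {b : V}, b ∈ 𝔅.W → (∀ v ∈ 𝔅.U, ψ v = 0) → ψ b = 0 → Rt H ψ b :=
      fun {ψ b} hb hψ h0 => 𝔅.full ψ b h0 hb hψ fun h => by rw [hs] at h; simp at h
    by_cases hβ0 : β = 0
    · by_cases hu0 : u = 0
      · rcases caseU hβ0 hu0 with h1 | h1
        · exact Or.inl h1
        · rw [hs] at h1; simp at h1
      · have hχα : χ = α := by rw [hχe, hβ0, add_zero]
        have hαw : α w = 0 := by rw [hχα, hcwu, map_add, hαU u hu, add_zero] at hχc; exact hχc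
        rw [hχα] at h
        have h1 := h.sub_right (hin hw hαU hαw)
        exact Or.inr (Or.inr (Or.inl (𝔅.extA hp hO h1 hu hu0 hαU hα0)))
    obtain ⟨b, hb, hαb, hbw⟩ : ∃ b ∈ 𝔅.W, α b = 0 ∧ b ∉ k ∙ w := by
      by_contra hn
      push Not at hn
      obtain ⟨x, hx, hαx⟩ : ∃ x ∈ 𝔅.W, α x ≠ 0 := by
        by_contra hn'
        push Not at hn'
        exact hα0 (ext_compl 𝔅.compl (by simpa using hn') (by simpa using hαU))
      have : Module.Finite k V := Module.Finite.of_finite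
      have hle : 𝔅.W ≤ span k ({w, x} : Set V) := by
        intro y hy
        have h1 := hn (y - (α y / α x) • x) (sub_mem hy (smul_mem _ _ hx)) (by simp [div_mul_cancel₀ _ hαx])
        have h2 : k ∙ w ≤ span k ({w, x} : Set V) := span_mono (by simp)
        have h3 := add_mem (h2 h1) (smul_mem (span k ({w, x} : Set V)) (α y / α x) (subset_span (show x ∈ ({w, x} : Set V) by simp)))
        rwa [sub_add_cancel] at h3
      classical
      have h4 : finrank k (span k (↑({w, x} : Finset V) : Set V)) ≤ 2 :=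
        (finrank_span_finset_le_card _).trans Finset.card_le_two
      rw [Finset.coe_insert, Finset.coe_singleton] at h4
      have := Submodule.finrank_mono hle
      have := 𝔅.dimSL hs
      omega
    have hb0 : b ≠ 0 := fun h0 => hbw (h0 ▸ zero_mem _)
    obtain ⟨ψ, h1, h2, h3⟩ := 𝔅.exists_sep hb hw (notMem_span_swap hw0 hbw)
    have h4 : Rt H χ b := h.comm (hin hb h3 h2) (hαW b hb ▸ hαb) (by
      rw [hcwu, map_add, h3 u hu, add_zero]; exact h1)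
    have h5 := h4.sub_left (hin hb hαU hαb)
    exact Or.inr (Or.inr (Or.inl (𝔅.extW hp hO h5 hb hb0 hβW hβ0)))

/-- The trichotomy: every transvection is inside, orthogonal, or forces an enlargement. -/
theorem trichotomy (hp : p ≠ 2) (hO : Cfsg.pCore p ↥H = ⊥) {χ : Dual k V} {c : V} (h : Rt H χ c)
    (hχ0 : χ ≠ 0) (hc0 : c ≠ 0) : 𝔅.In χ c ∨ 𝔅.Orth χ c ∨ 𝔅.Ext := by
  rcases 𝔅.classify hp hO h hχ0 hc0 with h1 | h1 | h1 | ⟨hs, hu0, hβ0, l, hl, hpure, hall⟩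
  · exact Or.inl h1
  · exact Or.inr (Or.inl h1)
  · exact Or.inr (Or.inr h1)
  right; right
  set u := c - 𝔅.P c with hu_def
  set β := χ - χ.comp 𝔅.P with hβ_def
  have hu : u ∈ 𝔅.U := 𝔅.sub_P_mem c
  have hβW : ∀ v ∈ 𝔅.W, β v = 0 := fun v hv => by simp [hβ_def, 𝔅.P_W hv]
  obtain ⟨χ', c', h', hβc', hχ'u⟩ := hpure.exists_partner hp hO hβ0 hu0
  have hχ'0 : χ' ≠ 0 := fun h0 => hχ'u (by rw [h0]; rfl)
  have hc'0 : c' ≠ 0 := fun h0 => hβc' (by rw [h0, map_zero])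
  have key : ∀ {β' : Dual k V} {v : V}, Rt H β' v → v ∈ 𝔅.U → (∀ x ∈ 𝔅.W, β' x = 0) →
      β v ≠ 0 → β' u ≠ 0 → 𝔅.Ext := by
    intro β' v r2 hv hβ' h1 h2
    exact 𝔅.growSp hs (β := l • β) hu hv (fun x hx => by simp [hβW x hx]) hβ' (hpure.smul_left l) r2
      (by simp [hl, h1]) h2 hall
  rcases 𝔅.classify hp hO h' hχ'0 hc'0 with h1 | ⟨h1, h2⟩ | h1 | ⟨-, -, -, l', hl', hpure', -⟩
  · exact absurd (h1.2.1 u hu) hχ'u
  · exact key h' h1 h2 hβc' hχ'u
  · exact h1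
  · refine key hpure' (𝔅.sub_P_mem c') (fun x hx => by simp [𝔅.P_W hx]) ?_ ?_
    · rw [map_sub, hβW _ (𝔅.P_mem c'), sub_zero]; exact hβc'
    · simp [𝔅.P_U hu, hχ'u]

end Cfsg.Agent.Lead.McL.Blk
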