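/-
Maximal blocks: every transvection lies in one, and distinct maximal blocks centralise each other.
-/
import Cfsg.Agent.Lib.Lead.McL.Grow

set_option autoImplicit false
set_option linter.unusedSectionVars false

namespace Cfsg.Agent.Lead.McL

open Module Submodule

variable {p : ℕ} [Fact p.Prime] {V : Type*} [AddCommGroup V] [Module (ZMod p) V] [Finite V]

local notation "k" => ZMod p

variable {H : Subgroup (V ≃ₗ[ZMod p] V)}

/-- The plane of a non-commuting pair is a block. -/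
theorem exists_plane {φ ψ : Dual k V} {a b : V} (h : Rt H φ a) (h' : Rt H ψ b) (h1 : φ b ≠ 0) (h2 : ψ a ≠ 0) :
    ∃ 𝔅 : Blk H, 𝔅.In φ a := by
  have ha := h.1
  have hb := h'.1
  have ha0 : a ≠ 0 := fun e => h2 (by rw [e, map_zero])
  set B : V →ₗ[k] V →ₗ[k] k := φ.smulRight ψ - ψ.smulRight φ with hB
  have halt : ∀ x, B x x = 0 := fun x => by simp [hB, mul_comm (φ x)]
  have hBa : ∀ v, B a v = -(ψ a * φ v) := fun v => by simp [hB, ha]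
  set W := span k ({a, b} : Set V) with hW
  have haW : a ∈ W := subset_span (by simp)
  have hbW : b ∈ W := subset_span (by simp)
  have hc : IsCompl W (LinearMap.ker φ ⊓ LinearMap.ker ψ) := by
    refine ⟨?_, ?_⟩
    · rw [Submodule.disjoint_def]
      rintro x hx ⟨hxφ, hxψ⟩
      obtain ⟨r, s, rfl⟩ := mem_span_pair.1 hx
      have hs : s = 0 := by simpa [LinearMap.mem_ker, ha, h1] using hxφ
      have hr : r = 0 := by simpa [LinearMap.mem_ker, hb, h2] using hxψ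
      simp [hr, hs]
    · rw [codisjoint_iff, eq_top_iff]
      intro v _
      refine mem_sup.2 ⟨(ψ v / ψ a) • a + (φ v / φ b) • b, add_mem (smul_mem _ _ haW) (smul_mem _ _ hbW),
        v - ((ψ v / ψ a) • a + (φ v / φ b) • b), ⟨?_, ?_⟩, by abel⟩
      · simp [ha, div_mul_cancel₀ _ h1]
      · simp [hb, div_mul_cancel₀ _ h2]
  have hli : b ∉ k ∙ a := fun hm => by
    obtain ⟨c, hc⟩ := mem_span_singleton.1 hm
    exact h1 (by rw [← hc, map_smul, ha, smul_zero])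
  have hdim : 2 ≤ finrank k W := by
    have : Module.Finite k V := Module.Finite.of_finite
    have h3 : finrank k (k ∙ a) < finrank k W :=
      Submodule.finrank_lt_finrank_of_lt (lt_of_le_of_ne (span_mono (by simp)) fun e => hli (e ▸ hbW))
    rw [finrank_span_singleton ha0] at h3
    omega
  have hnd : ∀ x ∈ W, x ≠ 0 → ∃ y ∈ W, B x y ≠ 0 := by
    intro x hx hx0
    obtain ⟨r, s, rfl⟩ := mem_span_pair.1 hx
    by_cases hr : r = 0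
    · have hs : s ≠ 0 := fun e => hx0 (by simp [hr, e])
      exact ⟨a, haW, by simp [hB, hr, ha, hb, hs, h1, h2]⟩
    · exact ⟨b, hbW, by simp [hB, ha, hb, hr, h1, h2]⟩
  refine ⟨{ W := W, U := _, sl := false, B := B, compl := hc, dim := hdim, dimSL := by simp,
            alt := fun _ => halt, rad := ?_, nd := fun _ => hnd, full := ?_ }, haW, ?_, fun _ => ?_⟩
  · rintro - x ⟨hxφ, hxψ⟩
    simp [hB, LinearMap.mem_ker.1 hxφ, LinearMap.mem_ker.1 hxψ]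
  · intro χ c hχc hc' _ hs
    obtain ⟨t, rfl⟩ := hs rfl
    obtain ⟨r, s, rfl⟩ := mem_span_pair.1 hc'
    exact h.plane h' h1 h2 r s (fun v e1 e2 => by simp [hB, e1, e2]) hχc
  · exact fun x hx => hx.1
  · refine ⟨-(ψ a)⁻¹, LinearMap.ext fun v => ?_⟩
    rw [LinearMap.smul_apply, smul_eq_mul, hBa, neg_mul_neg, ← mul_assoc, inv_mul_cancel₀ h2, one_mul]

theorem Blk.mu_le (𝔅 : Blk H) : 𝔅.mu ≤ 2 * finrank k V + 1 := by
  have : Module.Finite k V := Module.Finite.of_finite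
  have := Submodule.finrank_le 𝔅.W
  simp only [Blk.mu]
  split <;> omega

/-- Every transvection lies in a maximal block. -/
theorem exists_maximal (hp : p ≠ 2) (hO : Cfsg.pCore p ↥H = ⊥) {φ : Dual k V} {a : V} (h : Rt H φ a)
    (hφ : φ ≠ 0) (ha : a ≠ 0) : ∃ 𝔅 : Blk H, 𝔅.In φ a ∧ ¬ 𝔅.Ext := by
  obtain ⟨ψ, b, h', h1, h2⟩ := h.exists_partner hp hO hφ ha
  obtain ⟨𝔅0, h0⟩ := exists_plane h h' h1 h2
  set M := {m | ∃ 𝔅 : Blk H, 𝔅.In φ a ∧ 𝔅.mu = m} with hM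
  have hbdd : BddAbove M := ⟨2 * finrank k V + 1, by rintro m ⟨𝔅, -, rfl⟩; exact 𝔅.mu_le⟩
  obtain ⟨𝔅, hin, hmu⟩ := Nat.sSup_mem (s := M) ⟨_, 𝔅0, h0, rfl⟩ hbdd
  refine ⟨𝔅, hin, ?_⟩
  rintro ⟨𝔅', hsub, hlt⟩
  have : 𝔅'.mu ≤ sSup M := le_csSup hbdd ⟨𝔅', hsub _ _ hin, rfl⟩
  omega

namespace Blk

variable {𝔅 : Blk H}

theorem dichotomy (hp : p ≠ 2) (hO : Cfsg.pCore p ↥H = ⊥) (hmax : ¬ 𝔅.Ext) {χ : Dual k V} {c : V}
    (h : Rt H χ c) (hχ0 : χ ≠ 0) (hc0 : c ≠ 0) : 𝔅.In χ c ∨ 𝔅.Orth χ c := by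
  rcases 𝔅.trichotomy hp hO h hχ0 hc0 with h1 | h1 | h1
  · exact Or.inl h1
  · exact Or.inr h1
  · exact absurd h1 hmax

theorem in_not_orth {φ : Dual k V} {a : V} (h : 𝔅.In φ a) (h' : 𝔅.Orth φ a) : a = 0 :=
  𝔅.disj h.1 h'.1

/-- A point of the block killed by all its hyperplanes is zero. -/
theorem vanish {w : V} (hw : w ∈ 𝔅.W)
    (h : ∀ φ a, Rt H φ a → 𝔅.In φ a → φ ≠ 0 → a ≠ 0 → φ w = 0) : w = 0 := by
  by_contra hw0
  obtain ⟨ψ, b, h1, h2, hb0, h3⟩ := 𝔅.exists_moving hw hw0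
  exact h3 (h ψ b h1 h2 (fun e => h3 (by rw [e]; rfl)) hb0)

/-- A point of the block is the centre of a non-trivial transvection of the block. -/
theorem exists_root {y : V} (hy : y ∈ 𝔅.W) (hy0 : y ≠ 0) : ∃ φ, Rt H φ y ∧ 𝔅.In φ y ∧ φ ≠ 0 := by
  obtain ⟨ψ, h1, h2, x, -, hx⟩ := 𝔅.exists_at hy hy0
  exact ⟨ψ, h1, h2, fun e => hx (by rw [e]; rfl)⟩

theorem contained (hp : p ≠ 2) (hO : Cfsg.pCore p ↥H = ⊥) {𝔅' : Blk H} (hmax : ¬ 𝔅.Ext)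
    {ψ : Dual k V} {b : V} (hψ : ψ ≠ 0) (h1 : 𝔅.In ψ b) (h2 : 𝔅'.In ψ b) :
    𝔅'.W ≤ 𝔅.W ∧ 𝔅.U ≤ 𝔅'.U := by
  obtain ⟨x, hx, hψx⟩ : ∃ x ∈ 𝔅'.W, ψ x ≠ 0 := by
    by_contra hn
    push Not at hn
    exact hψ (ext_compl 𝔅'.compl (by simpa using hn) (by simpa using h2.2.1))
  have hW : 𝔅'.W ≤ 𝔅.W := by
    intro y hy
    refine mem_of_avoid ψ hx hψx (fun v => v ∈ 𝔅.W) (fun a c ha hc => sub_mem ha hc) ?_ y hy
    intro z hz hψz
    have hz0 : z ≠ 0 := fun e => hψz (by rw [e, map_zero])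
    obtain ⟨φ, h3, -, h5⟩ := 𝔅'.exists_root hz hz0
    rcases 𝔅.dichotomy hp hO hmax h3 h5 hz0 with h6 | h6
    · exact h6.1
    · exact absurd (h1.2.1 z h6.1) hψz
  refine ⟨hW, fun v hv => ?_⟩
  obtain ⟨w, hw, u, hu, rfl⟩ := exists_add 𝔅'.compl v
  suffices hw0 : w = 0 by rw [hw0, zero_add]; exact hu
  refine 𝔅'.vanish hw fun φ a h3 h4 h5 h6 => ?_
  rcases 𝔅.dichotomy hp hO hmax h3 h5 h6 with h7 | h7
  · have h8 := h7.2.1 _ hv
    rwa [map_add, h4.2.1 u hu, add_zero] at h8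
  · exact absurd (𝔅.disj (hW h4.1) h7.1) h6

/-- Two maximal blocks have the same spaces or centralise each other. -/
theorem rel (hp : p ≠ 2) (hO : Cfsg.pCore p ↥H = ⊥) {𝔅' : Blk H} (hmax : ¬ 𝔅.Ext) (hmax' : ¬ 𝔅'.Ext) :
    (𝔅.W = 𝔅'.W ∧ 𝔅.U = 𝔅'.U) ∨ (𝔅'.W ≤ 𝔅.U ∧ 𝔅.W ≤ 𝔅'.U) := by
  by_cases hex : ∃ ψ b, Rt H ψ b ∧ ψ ≠ 0 ∧ b ≠ 0 ∧ 𝔅'.In ψ b ∧ 𝔅.In ψ b
  · obtain ⟨ψ, b, -, h1, -, h2, h3⟩ := hex
    obtain ⟨a1, a2⟩ := contained hp hO hmax h1 h3 h2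
    obtain ⟨b1, b2⟩ := contained hp hO hmax' h1 h2 h3
    exact Or.inl ⟨le_antisymm b1 a1, le_antisymm a2 b2⟩
  · right
    push Not at hex
    have horth : ∀ φ a, Rt H φ a → 𝔅'.In φ a → φ ≠ 0 → a ≠ 0 → 𝔅.Orth φ a := fun φ a h1 h2 h3 h4 =>
      (𝔅.dichotomy hp hO hmax h1 h3 h4).resolve_left (hex φ a h1 h3 h4 h2)
    refine ⟨fun y hy => ?_, fun v hv => ?_⟩
    · by_cases hy0 : y = 0
      · rw [hy0]; exact zero_mem _
      obtain ⟨φ, h1, h2, h3⟩ := 𝔅'.exists_root hy hy0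
      exact (horth φ y h1 h2 h3 hy0).1
    · obtain ⟨w, hw, u, hu, rfl⟩ := exists_add 𝔅'.compl v
      suffices hw0 : w = 0 by rw [hw0, zero_add]; exact hu
      refine 𝔅'.vanish hw fun φ a h3 h4 h5 h6 => ?_
      have h8 := (horth φ a h3 h4 h5 h6).2 _ hv
      rwa [map_add, h4.2.1 u hu, add_zero] at h8

end Blk

end Cfsg.Agent.Lead.McL
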