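/-
The decomposition of a transvection group with trivial core over a prime field of odd order.
-/
import Cfsg.Agent.Lib.Lead.McL.Maximal
import Cfsg.Agent.Lib.Lead.McL.Generate

set_option autoImplicit false
set_option linter.unusedSectionVars false

namespace Cfsg.Agent.Lead.McL

open Module Submodule

variable {p : ℕ} [Fact p.Prime] {V : Type*} [AddCommGroup V] [Module (ZMod p) V] [Finite V]

local notation "k" => ZMod p
local notation "GLV" => V ≃ₗ[ZMod p] V

/-- Pairs of spaces carried by maximal blocks. -/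
def Key (H : Subgroup GLV) : Type _ :=
  {WU : Submodule k V × Submodule k V // ∃ 𝔅 : Blk H, ¬ 𝔅.Ext ∧ 𝔅.W = WU.1 ∧ 𝔅.U = WU.2}

instance (H : Subgroup GLV) : Finite (Key H) :=
  have : Finite (Submodule k V) := Finite.of_injective (fun W : Submodule k V => (W : Set V)) SetLike.coe_injective
  Subtype.finite

variable (H : Subgroup (V ≃ₗ[ZMod p] V))

/-- A chosen block. -/
noncomputable def Key.blk {H : Subgroup GLV} (i : Key H) : Blk H := i.2.choose

theorem Key.blk_max {H : Subgroup GLV} (i : Key H) : ¬ i.blk.Ext := i.2.choose_spec.1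

theorem Key.rel {H : Subgroup GLV} (hp : p ≠ 2) (hO : Cfsg.pCore p ↥H = ⊥) {i j : Key H} (h : i ≠ j) :
    j.blk.W ≤ i.blk.U := by
  rcases Blk.rel hp hO i.blk_max j.blk_max with ⟨h1, h2⟩ | ⟨h1, -⟩
  · refine absurd (Subtype.ext (Prod.ext ?_ ?_)) h
    · rw [← i.2.choose_spec.2.1, ← j.2.choose_spec.2.1]; exact h1
    · rw [← i.2.choose_spec.2.2, ← j.2.choose_spec.2.2]; exact h2
  · exact h1

theorem Key.exists_of_rt {H : Subgroup GLV} (hp : p ≠ 2) (hO : Cfsg.pCore p ↥H = ⊥) {φ : Dual k V} {a : V}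
    (h : Rt H φ a) (hφ : φ ≠ 0) (ha : a ≠ 0) :
    ∃ i : Key H, a ∈ i.blk.W ∧ ∀ u ∈ i.blk.U, φ u = 0 := by
  obtain ⟨𝔅, hin, hmax⟩ := exists_maximal hp hO h hφ ha
  let i : Key H := ⟨(𝔅.W, 𝔅.U), 𝔅, hmax, rfl, rfl⟩
  have h1 : i.blk.W = 𝔅.W := i.2.choose_spec.2.1
  have h2 : i.blk.U = 𝔅.U := i.2.choose_spec.2.2
  exact ⟨i, h1 ▸ hin.1, fun u hu => hin.2.1 u (h2 ▸ hu)⟩

/-- The generating transvections of a block. -/
def gens {H : Subgroup GLV} (i : Key H) : Set GLV :=
  {g | g ∈ H ∧ ∃ φ : Dual k V, ∃ a ∈ i.blk.W, (∀ u ∈ i.blk.U, φ u = 0) ∧ φ a = 0 ∧ ∀ v, g v = v + φ v • a}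

/-- The subgroup of a block. -/
def part {H : Subgroup GLV} (i : Key H) : Subgroup GLV := Subgroup.closure (gens i)

variable {H}

theorem part_le (i : Key H) : part i ≤ H := (Subgroup.closure_le _).2 fun _ hg => hg.1

/-- The elements fixing the complement and moving inside the block. -/
def frame (W U : Submodule k V) : Subgroup GLV where
  carrier := {g | (∀ u ∈ U, g u = u) ∧ ∀ v, g v - v ∈ W}
  one_mem' := ⟨fun _ _ => rfl, fun v => by simp⟩
  mul_mem' {g h} hg hh := ⟨fun u hu => by rw [LinearEquiv.mul_apply, hh.1 u hu, hg.1 u hu],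
    fun v => by
      rw [LinearEquiv.mul_apply, ← sub_add_sub_cancel (g (h v)) (h v) v]
      exact add_mem (hg.2 _) (hh.2 _)⟩
  inv_mem' {g} hg := by
    refine ⟨fun u hu => g.injective ?_, fun v => ?_⟩
    · show g (g.symm u) = g u
      rw [LinearEquiv.apply_symm_apply, hg.1 u hu]
    · have := neg_mem (hg.2 (g.symm v))
      rwa [LinearEquiv.apply_symm_apply, neg_sub] at this

theorem part_frame (i : Key H) : part i ≤ frame i.blk.W i.blk.U := by
  refine (Subgroup.closure_le _).2 ?_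
  rintro g ⟨-, φ, a, ha, hU, -, hg⟩
  exact ⟨fun u hu => by rw [hg, hU u hu, zero_smul, add_zero],
    fun v => by rw [hg, add_sub_cancel_left]; exact smul_mem _ _ ha⟩

variable (hp : p ≠ 2) (hO : Cfsg.pCore p ↥H = ⊥)
include hp hO

theorem part_comm {i j : Key H} (h : i ≠ j) {a b : GLV} (ha : a ∈ part i) (hb : b ∈ part j) :
    a * b = b * a := by
  obtain ⟨a1, a2⟩ := part_frame i ha
  obtain ⟨b1, b2⟩ := part_frame j hb
  ext v
  have e1 : a (b v - v) = b v - v := a1 _ (Key.rel hp hO h (b2 v))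
  have e2 : b (a v - v) = a v - v := b1 _ (Key.rel hp hO h.symm (a2 v))
  rw [map_sub] at e1 e2
  rw [LinearEquiv.mul_apply, LinearEquiv.mul_apply, sub_eq_iff_eq_add.1 e1, sub_eq_iff_eq_add.1 e2]
  abel

theorem iSup_part {T : Set GLV} (hHT : H = Subgroup.closure T)
    (hT : ∀ t ∈ T, orderOf t = p ∧
      finrank k ↥(LinearMap.ker ((t : V →ₗ[k] V) - LinearMap.id)) + 1 = finrank k V) :
    ⨆ i : Key H, part i = H := by
  refine le_antisymm (iSup_le fun i => part_le i) ?_
  conv_lhs => rw [hHT]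
  rw [Subgroup.closure_le]
  intro t ht
  have htH : t ∈ H := hHT ▸ Subgroup.subset_closure ht
  obtain ⟨φ, a, h, h1, h2, h3⟩ := exists_rt htH (hT t ht).1 (hT t ht).2
  obtain ⟨i, hi, hU⟩ := Key.exists_of_rt hp hO h h1 h2
  exact le_iSup part i (Subgroup.subset_closure ⟨htH, φ, a, hi, hU, h.1, h3⟩)

theorem normal_part (htop : ⨆ i : Key H, part i = H) (i : Key H) : ((part i).subgroupOf H).Normal := by
  rw [Subgroup.normal_subgroupOf_iff_le_normalizer (part_le i)]
  conv_lhs => rw [← htop]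
  refine iSup_le fun j g hg => ?_
  by_cases h : j = i
  · exact Subgroup.le_normalizer (h ▸ hg)
  · rw [Subgroup.mem_normalizer_iff]
    intro x
    constructor <;> intro hx
    · rwa [part_comm hp hO h hg hx, mul_inv_cancel_right]
    · have h1 := part_comm hp hO h ((part j).inv_mem hg) hx
      have : x = g⁻¹ * (g * x * g⁻¹) * g := by group
      rw [this, h1]
      simpa [mul_assoc] using hx

theorem preserves (i j : Key H) {g : GLV} (hg : g ∈ part i) {v : V} (hv : v ∈ j.blk.W) : g v ∈ j.blk.W := by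
  by_cases h : i = j
  · subst h
    have := add_mem ((part_frame i hg).2 v) hv
    rwa [sub_add_cancel] at this
  · rwa [(part_frame i hg).1 v (Key.rel hp hO h hv)]

end Cfsg.Agent.Lead.McL
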