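/-
The group induced by a block on its space, and the decomposition of the space.
-/
import Cfsg.Agent.Lib.Lead.McL.Decomp

set_option autoImplicit false
set_option linter.unusedSectionVars false

namespace Cfsg.Agent.Lead.McL

open Module Submodule

variable {p : ℕ} [Fact p.Prime] {V : Type*} [AddCommGroup V] [Module (ZMod p) V] [Finite V]

local notation "k" => ZMod p
local notation "GLV" => V ≃ₗ[ZMod p] V

variable {H : Subgroup (V ≃ₗ[ZMod p] V)} (hp : p ≠ 2) (hO : Cfsg.pCore p ↥H = ⊥)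
include hp hO

/-- Restriction to the space of the block. -/
theorem exists_res (i : Key H) (W : Submodule k V) (hW : W = i.blk.W) :
    ∃ ρ : ↥(part i) →* (↥W ≃ₗ[k] ↥W), (∀ (h : ↥(part i)) (v : ↥W), ((ρ h v : ↥W) : V) = (h : GLV) (v : V)) ∧
      ((ρ.range : Set (↥W ≃ₗ[k] ↥W)) = {f : ↥W ≃ₗ[k] ↥W | LinearMap.det (f : ↥W →ₗ[k] ↥W) = 1} ∨
        ∃ B : LinearMap.BilinForm k ↥W, B.IsAlt ∧ B.Nondegenerate ∧
          (ρ.range : Set (↥W ≃ₗ[k] ↥W)) = {f : ↥W ≃ₗ[k] ↥W | ∀ x y, B (f x) (f y) = B x y}) := by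
  subst hW
  have : Module.Finite k V := Module.Finite.of_finite
  set 𝔅 := i.blk with h𝔅
  have hmem : ∀ g ∈ part i, ∀ v ∈ 𝔅.W, g v ∈ 𝔅.W := fun g hg v hv => preserves hp hO i i hg hv
  have hmap : ∀ g ∈ part i, 𝔅.W.map (g : V →ₗ[k] V) = 𝔅.W := fun g hg => le_antisymm
    (by rintro _ ⟨v, hv, rfl⟩; exact hmem g hg v hv)
    (fun v hv => ⟨g⁻¹ v, hmem _ ((part i).inv_mem hg) v hv, g.apply_symm_apply v⟩)
  let ρ : ↥(part i) →* (↥𝔅.W ≃ₗ[k] ↥𝔅.W) := MonoidHom.mk'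
    (fun g => (g : GLV).ofSubmodules 𝔅.W 𝔅.W (hmap g g.2))
    (fun g h => LinearEquiv.ext fun v => Subtype.ext rfl)
  have hρ : ∀ (h : ↥(part i)) (v : ↥𝔅.W), ((ρ h v : ↥𝔅.W) : V) = (h : GLV) (v : V) := fun _ _ => rfl
  refine ⟨ρ, hρ, ?_⟩
  have hsub : ∀ (G : Subgroup (↥𝔅.W ≃ₗ[k] ↥𝔅.W)),
      (∀ (φ : Dual k V) (a : V) (ha : a ∈ 𝔅.W) (g : ↥(part i)), φ a = 0 → φ ≠ 0 → a ≠ 0 →
        Rt H φ a → 𝔅.In φ a → (∀ v, ρ g v = v + φ (v : V) • ⟨a, ha⟩) → ρ g ∈ G) → ρ.range ≤ G := by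
    rintro G hG _ ⟨⟨g, hg⟩, rfl⟩
    have hle : part i ≤ (G.comap ρ).map (part i).subtype := by
      refine (Subgroup.closure_le _).2 fun x hx => ?_
      refine ⟨⟨x, Subgroup.subset_closure hx⟩, ?_, rfl⟩
      obtain ⟨hxH, φ, a, ha, hU, h0, hv⟩ := hx
      set x' : ↥(part i) := ⟨x, Subgroup.subset_closure ⟨hxH, φ, a, ha, hU, h0, hv⟩⟩
      show ρ x' ∈ G
      have hval : ∀ v, ρ x' v = v + φ (v : V) • ⟨a, ha⟩ := fun v => Subtype.ext (hv v)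
      by_cases hz : φ = 0 ∨ a = 0
      · convert G.one_mem
        refine LinearEquiv.ext fun v => Subtype.ext ?_
        show x (v : V) = v
        rcases hz with e | e <;> simp [hv, e]
      push Not at hz
      have hrt : Rt H φ a := ⟨h0, x, hxH, hv⟩
      refine hG φ a ha x' h0 hz.1 hz.2 hrt ?_ hval
      exact (𝔅.dichotomy hp hO i.blk_max hrt hz.1 hz.2).resolve_right fun h => hz.2 (𝔅.disj ha h.1)
    obtain ⟨y, hy, he⟩ := hle hg
    have : y = ⟨g, hg⟩ := Subtype.ext he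
    exact this ▸ hy
  have hget : ∀ (φ : Dual k V) (a : V) (ha : a ∈ 𝔅.W) (f : ↥𝔅.W ≃ₗ[k] ↥𝔅.W), 𝔅.In φ a → φ a = 0 →
      (∀ v, f v = v + φ (v : V) • ⟨a, ha⟩) → f ∈ ρ.range := by
    intro φ a ha f hin h0 hf
    obtain ⟨-, g, hg, hv⟩ := 𝔅.full' hin h0
    exact ⟨⟨g, Subgroup.subset_closure ⟨hg, φ, a, ha, hin.2.1, h0, hv⟩⟩,
      LinearEquiv.ext fun v => Subtype.ext (by rw [hρ, hv, hf]; rfl)⟩
  rcases hs : 𝔅.sl with _ | _
  · right
    let B : LinearMap.BilinForm k ↥𝔅.W := 𝔅.B.compl₁₂ 𝔅.W.subtype 𝔅.W.subtype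
    have hB : Classical.SpCount.IsAltND (B : ↥𝔅.W →ₗ[k] ↥𝔅.W →ₗ[k] k) := by
      refine ⟨fun v => 𝔅.alt hs v, fun v hv => ?_⟩
      by_contra h0
      obtain ⟨x, hx, hvx⟩ := 𝔅.nd hs v v.2 fun h => h0 (Subtype.ext h)
      exact hvx (hv ⟨x, hx⟩)
    refine ⟨B, hB.self, ⟨hB.nondeg, fun v hv => hB.nondeg v fun w => ?_⟩, Set.ext fun f => ⟨?_, ?_⟩⟩
    · rw [hB.swap, hv w, neg_zero]
    · intro hf
      refine hsub (Classical.SpCount.isom (B : ↥𝔅.W →ₗ[k] ↥𝔅.W →ₗ[k] k)) ?_ hf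
      intro φ a ha g h0 _ _ _ hin hval
      obtain ⟨s, rfl⟩ := hin.2.2 hs
      intro x y
      rw [hval, hval]
      simp [B, 𝔅.alt hs a, 𝔅.B_swap hs (x : V) a]
      ring
    · intro hf
      refine mem_of_isometry hB ρ.range ?_ hf
      intro s w g hg
      refine hget (s • 𝔅.B w) w w.2 g ⟨w.2, fun u hu => by simp [𝔅.B_right hs _ hu],
        fun _ => ⟨s, rfl⟩⟩ (by simp [𝔅.alt hs]) fun v => ?_
      rw [hg]; rfl
  · left
    refine Set.ext fun f => ⟨?_, ?_⟩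
    · intro hf
      let D : Subgroup (↥𝔅.W ≃ₗ[k] ↥𝔅.W) := (LinearEquiv.det : (↥𝔅.W ≃ₗ[k] ↥𝔅.W) →* kˣ).ker
      have hD : f ∈ D := by
        refine hsub D ?_ hf
        intro φ a ha g h0 _ _ _ _ hval
        refine MonoidHom.mem_ker.2 (Units.ext ?_)
        rw [LinearEquiv.coe_det, Units.val_one]
        have : (ρ g : ↥𝔅.W →ₗ[k] ↥𝔅.W) = LinearMap.transvection (φ.comp 𝔅.W.subtype) ⟨a, ha⟩ :=
          LinearMap.ext fun v => by rw [LinearMap.transvection.apply]; exact hval v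
        rw [this, LinearMap.transvection.det]
        simp [h0]
      show LinearMap.det (f : ↥𝔅.W →ₗ[k] ↥𝔅.W) = 1
      rw [← LinearEquiv.coe_det, MonoidHom.mem_ker.1 hD, Units.val_one]
    · intro hf
      refine mem_of_det_one (by have := 𝔅.dimSL hs; omega) ρ.range ?_ hf
      intro φ a g h0 hg
      set φ' : Dual k V := φ.comp (Submodule.projectionOnto 𝔅.W 𝔅.U 𝔅.compl) with hφ'
      have hW : ∀ v : ↥𝔅.W, φ' (v : V) = φ v := fun v => by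
        rw [hφ', LinearMap.comp_apply, Submodule.projectionOnto_apply_left]
      refine hget φ' a a.2 g ⟨a.2, fun u hu => ?_, fun h => by rw [hs] at h; simp at h⟩ (by rw [hW]; exact h0)
        fun v => by rw [hg, hW]
      rw [hφ', LinearMap.comp_apply, (Submodule.projectionOnto_apply_eq_zero_iff 𝔅.compl).2 hu, map_zero]

end Cfsg.Agent.Lead.McL
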